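import Mathlib
import Cfsg.Agent.Nodes.LeviDec
import Cfsg.Agent.Nodes.NormalForm
import Cfsg.Agent.Nodes.CardSup
import Cfsg.Agent.ChevalleyStructure.WeylAbstract

/-!
# The order of a parabolic subgroup of a root group datum: components of type `A` (helper35, for helper53)

* `rdata cs h` : the combinatorial root datum of a Cartan matrix;
* `card_PJ_sum` : `|P_J| = |B| ∑_{w ∈ W_J} ∏_{x > 0, w x < 0} |X x|`;
* `EndPath M J c m` : `c 0, …, c (m - 1)` is a component of type `A_m` of `J`, with end node `c 0`;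
* `card_PJ_end` : `|P_J| = (1 + y + … + y^m) |P_{J \ {c 0}}|`, `y = |X (α_{c 0})|`;
* `card_PJ_path` : `|P_J| = ∏_{i < m} (1 + y + … + y^(i+1)) * |P_{J \ {c 0, …, c (m-1)}}|`.
-/

set_option autoImplicit false
set_option linter.unusedSectionVars false

namespace Cfsg.Agent.H35.Poin

open CoxeterSystem Cfsg.Agent.ChevalleyStructure.CoxeterGeom Cfsg.Agent.Tits.Roots Cfsg.Agent.Tits.Core
  Cfsg.Agent.Tits.RootComb Cfsg.Agent.Tits.Exchange Cfsg.Agent.Nodes.Comb Cfsg.Agent.Nodes.Reps
  Cfsg.Agent.Nodes.BNOf Cfsg.Agent.Nodes.StabComb Cfsg.Agent.Nodes.Bruhat Cfsg.Agent.Nodes.OppDec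
  Cfsg.Agent.Nodes.LeviDec Cfsg.Agent.Nodes.NormalForm Cfsg.Agent.ChevalleyStructure.WeylAbstract

/-! ### The root datum -/

section Data

variable {I W : Type*} [Fintype I] [DecidableEq I] [Group W] {M : CoxeterMatrix I}
  (cs : CoxeterSystem M W) {A : I → I → ℤ} (h : IsCartan M A)

/-- the roots -/
abbrev Rt : Type _ := {x : I → ℤ // IsRoot cs h x}

/-- the action of the Weyl group on the roots -/
def perm : W →* Equiv.Perm (Rt cs h) where
  toFun w :=
    { toFun := fun r => ⟨rep cs h w r.1, r.2.act w⟩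
      invFun := fun r => ⟨rep cs h w⁻¹ r.1, r.2.act w⁻¹⟩
      left_inv := fun r => Subtype.ext (rep_inv_apply cs h w r.1)
      right_inv := fun r => Subtype.ext (rep_apply_inv cs h w r.1) }
  map_one' := by
    ext r
    show (rep cs h 1 r.1) _ = r.1 _
    rw [map_one, Module.End.one_apply]
  map_mul' v w := by
    ext r
    show (rep cs h (v * w) r.1) _ = (rep cs h v (rep cs h w r.1)) _
    rw [rep_mul_apply]

@[simp] theorem coe_perm (w : W) (r : Rt cs h) : ((perm cs h w r : Rt cs h) : I → ℤ) = rep cs h w r.1 := rfl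

theorem perm_injective : Function.Injective (perm cs h) := by
  rw [injective_iff_map_eq_one]
  intro w hw
  refine eq_one_of_fix cs h w fun i => ?_
  have h1 := congrArg (fun f : Equiv.Perm (Rt cs h) => ((f ⟨sr i, isRoot_sr cs h i⟩ : Rt cs h) : I → ℤ)) hw
  exact h1

/-- the combinatorial root datum -/
def rdata : RData I (Rt cs h) where
  pos r := 0 ≤ r.1
  neg r := ⟨-r.1, r.2.neg⟩
  simple i := ⟨sr i, isRoot_sr cs h i⟩
  refl i := perm cs h (cs.simple i)
  co r i := r.1 i
  A := A
  pos_neg r := (IsRoot.not_nonneg_iff_neg r.2).symm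
  co_neg r i := rfl
  co_inj r s hrs := Subtype.ext (funext hrs)
  co_nonneg r hr i := hr i
  co_simple i j := by
    by_cases hj : j = i
    · subst hj; simp [sr]
    · rw [if_neg hj]; exact sr_ne hj
  refl_pos i r hr hne := by
    rw [coe_perm]
    exact r.2.simple_nonneg hr i fun e => hne (Subtype.ext e)
  A_diag := h.diag
  co_refl i r j := by
    rw [coe_perm, rep_simple_eq, Pi.sub_apply, Pi.smul_apply, smul_eq_mul]
    by_cases hj : j = i
    · subst hj
      rw [if_pos rfl, sr_self, mul_one]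
      unfold pairing
      simp only [mul_comm]
    · rw [if_neg hj, sr_ne hj, mul_zero]

theorem W_eq (J : Set I) : (rdata cs h).W J = (WJ cs J).map (perm cs h) := by
  unfold RData.W WJ
  rw [MonoidHom.map_closure, ← Set.image_comp]
  rfl

theorem finite_rt [Finite W] : Finite (Rt cs h) :=
  (RGD.finite_roots (cs := cs) (h := h)).to_subtype

end Data

/-! ### The orders -/

section Gen

variable {I W Y : Type*} [Fintype I] [DecidableEq I] [Group W] [Group Y] {M : CoxeterMatrix I}
  {cs : CoxeterSystem M W} {A : I → I → ℤ} {h : IsCartan M A} {p : ℕ} {T : Subgroup Y} {n : I → Y}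
  {X : (I → ℤ) → Subgroup Y} (R : RGD cs h p T n X)

include R

/-- `|B| = |U| |T|` -/
theorem card_B' [Finite W] [Finite Y] : Nat.card ↥(RGD.B cs h T X) =
    Nat.card ↥(RGD.Sup X (RGD.Pos cs h)) * Nat.card ↥T := by
  rw [mul_comm]
  refine Cfsg.Agent.Nodes.CardSup.card_mul_of_disjoint RGD.T_le_B RGD.U_le_B (fun g hg => ?_) ?_
  · obtain ⟨t, ht, u, hu, e⟩ := R.mem_B.1 hg
    exact ⟨t, ht, u, hu, e⟩
  · rw [inf_comm]; exact U_inf_T R

/-- **The order of a parabolic subgroup** (after helper296). -/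
theorem card_PJ_gen [Finite W] [Finite Y] (J : Set I) [Fintype ↥(WJ cs J)] :
    Nat.card ↥(PJ cs h T X J) = Nat.card ↥(RGD.Sup X (RGD.Pos cs h)) * Nat.card ↥T *
      ∑ w : ↥(WJ cs J), Nat.card ↥(RGD.Sup X (NW cs h (w : W))) := by
  classical
  have hex : ∀ w : W, ∃ k, Rp cs R.nsys w k := fun w => exists_rp cs R.nsys w
  choose k hk using hex
  have hNU : ∀ w : W, RGD.Sup X (NW cs h w) ≤ RGD.Sup X (RGD.Pos cs h) := fun w =>
    RGD.Sup_mono fun x hx => ⟨hx.1, hx.2.1⟩
  have hkt : ∀ (w : W) (t : ↥T), Rp cs R.nsys w (k w * t) := fun w t => (hk w).mul_mem_right t.2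
  let f : (Σ w : ↥(WJ cs J), (↥(RGD.Sup X (RGD.Pos cs h)) × ↥T) × ↥(RGD.Sup X (NW cs h (w : W)))) →
      ↥(PJ cs h T X J) := fun x => ⟨x.2.1.1 * (k x.1 * x.2.1.2) * x.2.2, by
    refine mul_mem (mul_mem (B_le_PJ (RGD.U_le_B x.2.1.1.2)) (LJ_le_PJ (rp_mem_LJ R x.1.2 (hkt _ _)))) (B_le_PJ
      (RGD.U_le_B (hNU _ x.2.2.2)))⟩
  have hf : Function.Bijective f := by
    constructor
    · rintro ⟨⟨w, hw⟩, ⟨⟨u, hu⟩, ⟨t, ht⟩⟩, ⟨v, hv⟩⟩ ⟨⟨w', hw'⟩, ⟨⟨u', hu'⟩, ⟨t', ht'⟩⟩, ⟨v', hv'⟩⟩ e
      have e1 : u * (k w * t) * v = u' * (k w' * t') * v' := congrArg Subtype.val e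
      have c1 : Cell R.nsys cs h X w (u * (k w * t) * v) :=
        ⟨u, RGD.U_le_B hu, k w * t, hkt w ⟨t, ht⟩, v, RGD.U_le_B (hNU w hv), rfl⟩
      have c2 : Cell R.nsys cs h X w' (u' * (k w' * t') * v') :=
        ⟨u', RGD.U_le_B hu', k w' * t', hkt w' ⟨t', ht'⟩, v', RGD.U_le_B (hNU w' hv'), rfl⟩
      have hww : w = w' := Cell.unique R c1 (by rw [e1]; exact c2)
      subst hww
      obtain ⟨rfl, h2, rfl⟩ := normal_form_unique R hu hu' (hkt w ⟨t, ht⟩) (hkt w ⟨t', ht'⟩) hv hv' e1
      have h3 : t = t' := mul_left_cancel h2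
      subst h3
      rfl
    · rintro ⟨g, hg⟩
      obtain ⟨w, hw, hc⟩ := (mem_PJ_iff_cell R).1 hg
      obtain ⟨u, hu, k', hk', v, hv, rfl⟩ := exists_normal_form R hc
      refine ⟨⟨⟨w, hw⟩, ⟨⟨u, hu⟩, ⟨_, (hk w).unique hk'⟩⟩, ⟨v, hv⟩⟩, Subtype.ext ?_⟩
      show u * (k w * ((k w)⁻¹ * k')) * v = u * k' * v
      group
  rw [← Nat.card_congr (Equiv.ofBijective f hf), Nat.card_sigma]
  simp only [Nat.card_prod]
  rw [Finset.mul_sum]

omit R in
theorem closed_NW (w : W) : Cfsg.Agent.Nodes.Unique.Closed cs h (NW cs h w) := by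
  intro x hx y hy z hz
  refine ⟨hz.1, RGD.nonneg_of_btwn hx.2.1 hy.2.1 hz, ?_⟩
  have h1 : (0 : I → ℤ) ≤ rep cs h w (-z) := by
    refine RGD.nonneg_of_btwn (cs := cs) (h := h) (x := rep cs h w (-x)) (y := rep cs h w (-y))
      ?_ ?_ ((btwn_neg hz).act w)
    · rw [map_neg]; exact neg_nonneg.2 hx.2.2
    · rw [map_neg]; exact neg_nonneg.2 hy.2.2
  rw [map_neg] at h1
  exact neg_nonneg.1 h1

theorem card_X_neg [Finite W] {x : I → ℤ} (hx : IsRoot cs h x) : Nat.card (X (-x)) = Nat.card (X x) := by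
  obtain ⟨w, i, rfl⟩ := hx
  have h1 : -(rep cs h w (sr i)) = rep cs h (w * cs.simple i) (sr i) := by
    rw [rep_mul_apply, rep_simple_sr, map_neg]
  rw [h1, Cfsg.Agent.Nodes.CardSup.card_X_rep R _ (isRoot_sr cs h i),
    Cfsg.Agent.Nodes.CardSup.card_X_rep R _ (isRoot_sr cs h i)]

/-- `|⟨X x : x > 0, w x < 0⟩|` as the monomial of `w` -/
theorem card_Sup_NW_eq_Q [Finite W] [Fintype (Rt cs h)] (w : W) :
    Nat.card ↥(RGD.Sup X (NW cs h w)) = (rdata cs h).Q (fun r => Nat.card (X r.1)) (perm cs h w) := by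
  classical
  have hfin : (NW cs h w).Finite := (RGD.finite_roots (cs := cs) (h := h)).subset fun _ hx => hx.1
  have h1 := Cfsg.Agent.Nodes.CardSup.card_sup R (s := hfin.toFinset) (by
    rw [Set.Finite.coe_toFinset]
    exact fun x hx => ⟨hx.1, hx.2.1⟩) (by
    rw [Set.Finite.coe_toFinset]
    exact closed_NW w)
  rw [Set.Finite.coe_toFinset] at h1
  rw [h1]
  unfold RData.Q
  symm
  refine Finset.prod_bij (fun r _ => r.1) ?_ ?_ ?_ ?_
  · intro r hr
    rw [Finset.mem_filter] at hr
    rw [Set.Finite.mem_toFinset]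
    exact ⟨r.2, hr.2.1, ((r.2.act w).not_nonneg_iff).1 hr.2.2⟩
  · intro r _ s _ e
    exact Subtype.ext e
  · intro x hx
    rw [Set.Finite.mem_toFinset] at hx
    refine ⟨⟨x, hx.1⟩, ?_, rfl⟩
    rw [Finset.mem_filter]
    exact ⟨Finset.mem_univ _, hx.2.1, ((hx.1.act w).not_nonneg_iff).2 hx.2.2⟩
  · intro r _
    rfl

/-- **The order of a parabolic subgroup** as a Poincaré sum. -/
theorem card_PJ_sum [Finite W] [Finite Y] [Fintype (Rt cs h)] (J : Set I) :
    Nat.card ↥(PJ cs h T X J) = Nat.card ↥(RGD.B cs h T X) *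
      ∑ᶠ w ∈ ((rdata cs h).W J : Set (Equiv.Perm (Rt cs h))),
        (rdata cs h).Q (fun r => Nat.card (X r.1)) w := by
  classical
  have : Fintype ↥(WJ cs J) := Fintype.ofFinite _
  rw [card_PJ_gen R J, card_B' R]
  congr 1
  rw [W_eq, Subgroup.coe_map, finsum_mem_image (perm_injective cs h).injOn, ← finsum_set_coe_eq_finsum_mem,
    finsum_eq_sum_of_fintype]
  exact Finset.sum_congr rfl fun w _ => card_Sup_NW_eq_Q R w

end Gen

/-! ### The orbit of a fundamental weight under a component of type `A` -/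

section Orbit

variable {ι Φ : Type*} [Fintype ι] [DecidableEq ι] (R : RData ι Φ)

theorem Qw_act [Fintype Φ] {S : Type*} [CommMonoid S] (x : Φ → S) (hx : ∀ i r, x (R.refl i r) = x r)
    (i : ι) (m : ι → ℤ) (hm : 0 < m i) :
    R.Qw x (R.act i m) = x (R.simple i) * R.Qw x m := by
  classical
  unfold RData.Qw
  have h1 : (Finset.univ.filter fun s => R.pos s ∧ R.val (R.act i m) s < 0) =
      insert (R.simple i) ((Finset.univ.filter fun s => R.pos s ∧ R.val m s < 0).map
        (R.refl i).toEmbedding) := by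
    ext s
    simp only [Finset.mem_filter, Finset.mem_univ, true_and, Finset.mem_insert, Finset.mem_map,
      Equiv.toEmbedding_apply, R.val_act]
    constructor
    · rintro ⟨h1, h2⟩
      by_cases hs : s = R.simple i
      · exact Or.inl hs
      · exact Or.inr ⟨R.refl i s, ⟨R.refl_pos i s h1 hs, h2⟩, R.refl_refl i s⟩
    · rintro (rfl | ⟨s', ⟨h1, h2⟩, rfl⟩)
      · refine ⟨R.simple_pos i, ?_⟩
        rw [← R.val_act, R.val_simple]
        have : R.act i m i = - m i := by
          unfold RData.act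
          rw [R.A_diag]; ring
        rw [this]; omega
      · rw [R.refl_refl]
        refine ⟨R.refl_pos i s' h1 ?_, h2⟩
        rintro rfl
        rw [R.val_simple] at h2
        omega
  rw [h1, Finset.prod_insert, Finset.prod_map]
  · congr 1
    exact Finset.prod_congr rfl fun s _ => by rw [Equiv.toEmbedding_apply, hx]
  · simp only [Finset.mem_map, Finset.mem_filter, Finset.mem_univ, true_and, not_exists, not_and,
      Equiv.toEmbedding_apply]
    rintro s ⟨h2, h3⟩ h4
    have h5 : s = R.refl i (R.simple i) := by rw [← h4, R.refl_refl]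
    rw [h5, R.refl_simple, R.pos_neg] at h2
    exact h2 (R.simple_pos i)

theorem Qw_single [Fintype Φ] {S : Type*} [CommMonoid S] (x : Φ → S) (k : ι) :
    R.Qw x (Pi.single k 1) = 1 := by
  classical
  unfold RData.Qw
  apply Finset.prod_eq_one
  intro s hs
  have h1 := (Finset.mem_filter.1 hs).2
  rw [R.val_single] at h1
  have := R.co_nonneg s h1.1 k
  omega

theorem act_act (i : ι) (m : ι → ℤ) : R.act i (R.act i m) = m := by
  funext k
  unfold RData.act
  rw [R.A_diag]
  ring

theorem act_zero {i : ι} {m : ι → ℤ} (hm : m i = 0) : R.act i m = m := by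
  funext k
  unfold RData.act
  rw [hm]
  ring

/-- `c 0, …, c (m - 1)` is a component of type `A_m` of `J`, with end node `c 0` (Cartan matrix version) -/
structure APath (A : ι → ι → ℤ) (J : Set ι) (c : ℕ → ι) (m : ℕ) : Prop where
  mem : ∀ t < m, c t ∈ J
  adj : ∀ t, t + 1 < m → A (c t) (c (t + 1)) = -1 ∧ A (c (t + 1)) (c t) = -1
  far : ∀ s t, s + 1 < t → t < m → A (c s) (c t) = 0 ∧ A (c t) (c s) = 0
  out : ∀ j ∈ J, (∀ t < m, c t ≠ j) → ∀ t < m, A (c t) j = 0
  inj : ∀ s < m, ∀ t < m, c s = c t → s = t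

/-- the weights of the orbit -/
def mu (c : ℕ → ι) : ℕ → (ι → ℤ)
  | 0 => Pi.single (c 0) 1
  | t + 1 => R.act (c t) (mu c t)

theorem mu_apply {J : Set ι} {c : ℕ → ι} {m : ℕ} (hP : APath R.A J c m) (hm : 0 < m) : ∀ t ≤ m, ∀ j ∈ J,
    mu R c t j = if t < m ∧ j = c t then 1 else if 0 < t ∧ j = c (t - 1) then -1 else 0 := by
  intro t
  induction t with
  | zero =>
    intro _ j _
    show (Pi.single (c 0) 1 : ι → ℤ) j = _
    rw [Pi.single_apply]
    simp [hm]
  | succ t ih =>
    intro ht j hj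
    have h1 := ih (by omega)
    have h2 : mu R c t (c t) = 1 := by
      rw [h1 _ (hP.mem t (by omega)), if_pos ⟨by omega, rfl⟩]
    have h3 : mu R c (t + 1) j = mu R c t j - R.A (c t) j := by
      show mu R c t j - mu R c t (c t) * R.A (c t) j = _
      rw [h2, one_mul]
    rw [h3, h1 j hj, Nat.add_sub_cancel]
    by_cases hj0 : ∃ s < m, c s = j
    · obtain ⟨s, hs, rfl⟩ := hj0
      rcases lt_trichotomy s t with hst | rfl | hst
      · by_cases hst' : s + 1 = t
        · subst hst'
          rw [if_neg, if_pos, if_neg, if_neg, (hP.adj s (by omega)).2]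
          · norm_num
          · rintro ⟨-, h4⟩
            have := hP.inj s hs (s + 1) (by omega) h4
            omega
          · rintro ⟨h5, h4⟩
            have := hP.inj s hs _ h5 h4
            omega
          · exact ⟨by omega, by rw [Nat.add_sub_cancel]⟩
          · rintro ⟨h5, h4⟩
            have := hP.inj s hs _ h5 h4
            omega
        · rw [if_neg, if_neg, if_neg, if_neg, (hP.far s t (by omega) (by omega)).2]
          · norm_num
          · rintro ⟨h5, h4⟩
            have := hP.inj s hs t (by omega) h4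
            omega
          · rintro ⟨h5, h4⟩
            have := hP.inj s hs _ h5 h4
            omega
          · rintro ⟨h5, h4⟩
            have := hP.inj s hs _ (by omega) h4
            omega
          · rintro ⟨h5, h4⟩
            have := hP.inj s hs _ h5 h4
            omega
      · rw [if_pos ⟨by omega, rfl⟩, if_neg, if_pos ⟨by omega, rfl⟩, R.A_diag]
        · norm_num
        · rintro ⟨h5, h4⟩
          have := hP.inj s hs _ h5 h4
          omega
      · by_cases hst' : t + 1 = s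
        · subst hst'
          rw [if_neg, if_neg, if_pos ⟨by omega, rfl⟩, (hP.adj t (by omega)).1]
          · norm_num
          · rintro ⟨h5, h4⟩
            have := hP.inj _ hs _ (by omega) h4
            omega
          · rintro ⟨h5, h4⟩
            have := hP.inj _ hs _ h5 h4
            omega
        · rw [if_neg, if_neg, if_neg, if_neg, (hP.far t s (by omega) hs).1]
          · norm_num
          · rintro ⟨h5, h4⟩
            have := hP.inj s hs _ (by omega) h4
            omega
          · rintro ⟨h5, h4⟩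
            have := hP.inj s hs _ h5 h4
            omega
          · rintro ⟨h5, h4⟩
            have := hP.inj s hs _ (by omega) h4
            omega
          · rintro ⟨h5, h4⟩
            have := hP.inj s hs _ h5 h4
            omega
    · push Not at hj0
      rw [if_neg, if_neg, if_neg, if_neg, hP.out j hj hj0 t (by omega)]
      · norm_num
      · rintro ⟨h5, h4⟩
        exact hj0 t (by omega) h4.symm
      · rintro ⟨h5, h4⟩
        exact hj0 (t + 1) h5 h4.symm
      · rintro ⟨h5, h4⟩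
        exact hj0 _ (by omega) h4.symm
      · rintro ⟨h5, h4⟩
        exact hj0 t h5 h4.symm

theorem mu_self {J : Set ι} {c : ℕ → ι} {m : ℕ} (hP : APath R.A J c m) {t : ℕ} (ht : t < m) :
    mu R c t (c t) = 1 := by
  rw [mu_apply R hP (by omega) t (by omega) _ (hP.mem t ht), if_pos ⟨ht, rfl⟩]

theorem mu_inj {J : Set ι} {c : ℕ → ι} {m : ℕ} (hP : APath R.A J c m) (hm : 0 < m) {s t : ℕ} (hst : s < t)
    (ht : t ≤ m) : mu R c s ≠ mu R c t := by
  intro e
  have h1 := mu_self R hP (t := s) (by omega)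
  rw [e, mu_apply R hP hm t ht _ (hP.mem s (by omega)), if_neg] at h1
  · split_ifs at h1 <;> omega
  · rintro ⟨h5, h4⟩
    have := hP.inj s (by omega) t h5 h4
    omega

theorem sum_end [Finite Φ] [Fintype Φ] {S : Type*} [CommSemiring S] (x : Φ → S)
    (hx : ∀ i r, x (R.refl i r) = x r)
    (hxn : ∀ r, x (R.neg r) = x r) {J : Set ι} {c : ℕ → ι} {m : ℕ} (hP : APath R.A J c m) (hm : 0 < m) {y : S}
    (hy : ∀ t < m, x (R.simple (c t)) = y) :
    ∑ᶠ w ∈ (R.W J : Set (Equiv.Perm Φ)), R.Q x w =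
      (∑ t ∈ Finset.range (m + 1), y ^ t) * ∑ᶠ v ∈ (R.W (J \ {c 0}) : Set (Equiv.Perm Φ)), R.Q x v := by
  classical
  have hQ : ∀ t ≤ m, R.Qw x (mu R c t) = y ^ t := by
    intro t
    induction t with
    | zero => intro _; rw [pow_zero]; exact Qw_single R x _
    | succ t ih =>
      intro ht
      show R.Qw x (R.act (c t) (mu R c t)) = _
      rw [Qw_act R x hx _ _ (by rw [mu_self R hP (by omega)]; exact one_pos), ih (by omega), hy t (by omega),
        pow_succ, mul_comm]
  have hreach : ∀ t ≤ m, R.Reach J (c 0) (mu R c t) := by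
    intro t
    induction t with
    | zero => intro _; exact RData.Reach.base
    | succ t ih => intro ht; exact RData.Reach.step _ _ (hP.mem t (by omega)) (ih (by omega))
  rw [R.sum_step x hx hxn (J := J) (k := c 0) ((Finset.range (m + 1)).image (mu R c))]
  · congr 1
    rw [Finset.sum_image]
    · exact Finset.sum_congr rfl fun t ht => hQ t (by rw [Finset.mem_range] at ht; omega)
    · intro s hs t ht e
      rw [Finset.coe_range, Set.mem_Iio] at hs ht
      rcases lt_trichotomy s t with h1 | h1 | h1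
      · exact absurd e (mu_inj R hP hm h1 (by omega))
      · exact h1
      · exact absurd e.symm (mu_inj R hP hm h1 (by omega))
  · exact Finset.mem_image.2 ⟨0, by simp, rfl⟩
  · intro μ hμ j hj
    obtain ⟨t, ht, rfl⟩ := Finset.mem_image.1 hμ
    rw [Finset.mem_range] at ht
    rw [Finset.mem_image]
    have h1 := mu_apply R hP hm t (by omega) j hj
    by_cases h2 : t < m ∧ j = c t
    · refine ⟨t + 1, by rw [Finset.mem_range]; omega, ?_⟩
      rw [h2.2]; rfl
    · rw [if_neg h2] at h1
      by_cases h3 : 0 < t ∧ j = c (t - 1)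
      · refine ⟨t - 1, by rw [Finset.mem_range]; omega, ?_⟩
        obtain ⟨u, rfl⟩ : ∃ u, t = u + 1 := ⟨t - 1, by omega⟩
        rw [Nat.add_sub_cancel] at h3 ⊢
        rw [h3.2]
        exact (act_act R _ _).symm
      · rw [if_neg h3] at h1
        exact ⟨t, by rw [Finset.mem_range]; omega, (act_zero R h1).symm⟩
  · intro μ hμ
    obtain ⟨t, ht, rfl⟩ := Finset.mem_image.1 hμ
    rw [Finset.mem_range] at ht
    exact hreach t (by omega)

theorem APath.tail {A : ι → ι → ℤ} {J : Set ι} {c : ℕ → ι} {m : ℕ} (hP : APath A J c (m + 1)) :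
    APath A (J \ {c 0}) (fun t => c (t + 1)) m where
  mem t ht := ⟨hP.mem _ (by omega), fun e => by
    have := hP.inj _ (by omega) _ (by omega) (Set.mem_singleton_iff.1 e)
    omega⟩
  adj t ht := hP.adj _ (by omega)
  far s t hs ht := hP.far _ _ (by omega) (by omega)
  out j hj hc t ht := hP.out j hj.1 (fun s hs e => by
    rcases Nat.eq_zero_or_pos s with rfl | h0
    · exact hj.2 (Set.mem_singleton_iff.2 e.symm)
    · refine hc (s - 1) (by omega) ?_
      rw [← e]
      congr 1
      omega) _ (by omega)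
  inj s hs t ht e := by
    have := hP.inj _ (by omega) _ (by omega) e
    omega

theorem sum_path [Finite Φ] [Fintype Φ] {S : Type*} [CommSemiring S] (x : Φ → S)
    (hx : ∀ i r, x (R.refl i r) = x r)
    (hxn : ∀ r, x (R.neg r) = x r) {y : S} : ∀ (m : ℕ) {J : Set ι} {c : ℕ → ι} (_ : APath R.A J c m)
    (_ : ∀ t < m, x (R.simple (c t)) = y),
    ∑ᶠ w ∈ (R.W J : Set (Equiv.Perm Φ)), R.Q x w =
      (∏ i ∈ Finset.range m, ∑ t ∈ Finset.range (i + 2), y ^ t) *
        ∑ᶠ v ∈ (R.W (J \ {j | ∃ t < m, c t = j}) : Set (Equiv.Perm Φ)), R.Q x v := by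
  intro m
  induction m with
  | zero =>
    intro J c _ _
    have : J \ {j | ∃ t < 0, c t = j} = J := by
      ext j; simp
    rw [this, Finset.prod_range_zero, one_mul]
  | succ m ih =>
    intro J c hP hy
    rw [sum_end R x hx hxn hP (by omega) hy, ih hP.tail (fun t ht => hy (t + 1) (by omega)),
      Finset.prod_range_succ]
    have : (J \ {c 0}) \ {j | ∃ t < m, c (t + 1) = j} = J \ {j | ∃ t < m + 1, c t = j} := by
      ext j
      simp only [Set.mem_sdiff, Set.mem_singleton_iff, Set.mem_ofPred_eq, not_exists, not_and]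
      constructor
      · rintro ⟨⟨h1, h2⟩, h3⟩
        refine ⟨h1, fun t ht e => ?_⟩
        rcases Nat.eq_zero_or_pos t with rfl | h0
        · exact h2 e.symm
        · refine h3 (t - 1) (by omega) ?_
          rw [← e]
          congr 1
          omega
      · rintro ⟨h1, h2⟩
        exact ⟨⟨h1, fun e => h2 0 (by omega) e.symm⟩, fun t ht => h2 (t + 1) (by omega)⟩
    rw [this]
    ring

end Orbit

/-! ### Parabolic subgroups -/

section Par

variable {I W Y : Type*} [Fintype I] [DecidableEq I] [Group W] [Group Y] {M : CoxeterMatrix I}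
  {cs : CoxeterSystem M W} {A : I → I → ℤ} {h : IsCartan M A} {p : ℕ} {T : Subgroup Y} {n : I → Y}
  {X : (I → ℤ) → Subgroup Y} (R : RGD cs h p T n X)

include R

/-- **The order of a parabolic subgroup: a component of type `A_m`.** -/
theorem card_PJ_path [Finite W] [Finite Y] {J : Set I} {c : ℕ → I} {m y : ℕ} (hP : APath A J c m)
    (hy : ∀ t < m, Nat.card (X (sr (c t))) = y) :
    Nat.card ↥(PJ cs h T X J) = (∏ i ∈ Finset.range m, ∑ t ∈ Finset.range (i + 2), y ^ t) *
      Nat.card ↥(PJ cs h T X (J \ {j | ∃ t < m, c t = j})) := by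
  classical
  have : Finite (Rt cs h) := finite_rt cs h
  have : Fintype (Rt cs h) := Fintype.ofFinite _
  rw [card_PJ_sum R J, card_PJ_sum R, sum_path (rdata cs h) (fun r => Nat.card (X r.1)) ?_ ?_ m hP hy]
  · ring
  · intro i r
    exact Cfsg.Agent.Nodes.CardSup.card_X_rep R _ r.2
  · intro r
    exact card_X_neg R r.2

omit R in
theorem PJ_empty : PJ cs h T X (∅ : Set I) = RGD.B cs h T X := by
  apply le_antisymm _ B_le_PJ
  refine sup_le ?_ (VJ_le_B _)
  unfold LJ
  refine sup_le RGD.T_le_B (RGD.Sup_le fun x hx => ?_)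
  exfalso
  have h1 : x = 0 := funext fun k => hx.2 k (by simp)
  exact hx.1.ne_zero h1

end Par

end Cfsg.Agent.H35.Poin
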