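import Mathlib

/-!
# Products of numbers `q ^ d - 1` and the primes dividing their quotients (helper35, for helper53)

`dvd_index` : let `idx * ∏_{d ∈ dJ} (q^d - 1) = ∏_{d ∈ dS} (q^d - 1) = P * ∏_{d ∈ dD} (q^d - 1)`. Under a decidable
condition on the numbers of multiples of `m` in the lists, a prime divisor of `P` not dividing `q - 1` divides `idx`.
-/

set_option autoImplicit false

namespace Cfsg.Agent.H35.PoinNum

/-- the `m`-th cyclotomic polynomial at `q` -/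
noncomputable def E (q m : ℕ) : ℤ := (Polynomial.cyclotomic m ℤ).eval (q : ℤ)

/-- the number of multiples of `m` in the list -/
def cnt (l : List ℕ) (m : ℕ) : ℕ := l.countP (fun d => decide (m ∣ d))

theorem E_pos {q : ℕ} (hq : 2 ≤ q) (m : ℕ) : 0 < E q m :=
  Polynomial.cyclotomic_pos' m (by exact_mod_cast hq)

theorem E_one (q : ℕ) : E q 1 = q - 1 := by
  unfold E
  rw [Polynomial.cyclotomic_one]
  simp

/-- the product of the `q ^ d - 1` -/
def pr (q : ℕ) (l : List ℕ) : ℕ := (l.map fun d => q ^ d - 1).prod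

theorem pr_nil (q : ℕ) : pr q [] = 1 := rfl

theorem pr_cons (q d : ℕ) (l : List ℕ) : pr q (d :: l) = (q ^ d - 1) * pr q l := by
  unfold pr; rw [List.map_cons, List.prod_cons]

theorem pow_sub_one_eq {q : ℕ} (hq : 2 ≤ q) {d N : ℕ} (hd : 0 < d) (hN : d < N) :
    ((q ^ d - 1 : ℕ) : ℤ) = ∏ m ∈ Finset.range N, E q m ^ (if m ∣ d then 1 else 0) := by
  have h1 : 1 ≤ q ^ d := Nat.one_le_pow _ _ (by omega)
  rw [Nat.cast_sub h1, Nat.cast_pow, Nat.cast_one]
  have h2 := congrArg (fun P : Polynomial ℤ => P.eval (q : ℤ)) (Polynomial.prod_cyclotomic_eq_X_pow_sub_one hd ℤ)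
  simp only [Polynomial.eval_prod, Polynomial.eval_sub, Polynomial.eval_pow, Polynomial.eval_X,
    Polynomial.eval_one] at h2
  rw [← h2]
  simp only [pow_ite, pow_one, pow_zero]
  rw [← Finset.prod_filter]
  refine Finset.prod_congr ?_ fun _ _ => rfl
  ext m
  rw [Nat.mem_divisors, Finset.mem_filter, Finset.mem_range]
  constructor
  · rintro ⟨h3, -⟩
    exact ⟨lt_of_le_of_lt (Nat.le_of_dvd hd h3) hN, h3⟩
  · rintro ⟨-, h3⟩
    exact ⟨h3, hd.ne'⟩

theorem pr_eq {q : ℕ} (hq : 2 ≤ q) {N : ℕ} : ∀ (l : List ℕ), (∀ d ∈ l, 0 < d ∧ d < N) →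
    ((pr q l : ℕ) : ℤ) = ∏ m ∈ Finset.range N, E q m ^ cnt l m
  | [], _ => by simp [pr, cnt]
  | d :: l, h => by
    rw [pr_cons, Nat.cast_mul, pr_eq hq l fun e he => h e (List.mem_cons_of_mem _ he),
      pow_sub_one_eq hq (h d List.mem_cons_self).1 (h d List.mem_cons_self).2, ← Finset.prod_mul_distrib]
    refine Finset.prod_congr rfl fun m _ => ?_
    rw [← pow_add]
    congr 1
    unfold cnt
    rw [List.countP_cons, add_comm]
    by_cases hm : m ∣ d <;> simp [hm]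

theorem eq_prod {q : ℕ} (hq : 2 ≤ q) {N : ℕ} {dS dJ : List ℕ} (hS : ∀ d ∈ dS, 0 < d ∧ d < N)
    (hJ : ∀ d ∈ dJ, 0 < d ∧ d < N) {idx : ℕ} (hI : idx * pr q dJ = pr q dS)
    (hle : ∀ m < N, cnt dJ m ≤ cnt dS m) :
    (idx : ℤ) = ∏ m ∈ Finset.range N, E q m ^ (cnt dS m - cnt dJ m) := by
  have h1 := congrArg (Nat.cast (R := ℤ)) hI
  rw [Nat.cast_mul, pr_eq hq dJ hJ, pr_eq hq dS hS] at h1
  have h2 : ∏ m ∈ Finset.range N, E q m ^ cnt dJ m ≠ 0 :=
    Finset.prod_ne_zero_iff.2 fun m _ => pow_ne_zero _ (E_pos hq m).ne'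
  refine mul_right_cancel₀ h2 ?_
  rw [h1, ← Finset.prod_mul_distrib]
  refine Finset.prod_congr rfl fun m hm => ?_
  rw [← pow_add, Nat.sub_add_cancel (hle m (Finset.mem_range.1 hm))]

theorem dvd_index {q : ℕ} (hq : 2 ≤ q) {N : ℕ} {dS dJ dD : List ℕ} (hS : ∀ d ∈ dS, 0 < d ∧ d < N)
    (hJ : ∀ d ∈ dJ, 0 < d ∧ d < N) (hD : ∀ d ∈ dD, 0 < d ∧ d < N) {idx P : ℕ}
    (hI : idx * pr q dJ = pr q dS) (hP : P * pr q dD = pr q dS)
    (hchk : ∀ m < N, cnt dJ m ≤ cnt dS m ∧ cnt dD m ≤ cnt dS m ∧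
      (2 ≤ m → cnt dD m < cnt dS m → cnt dJ m < cnt dS m))
    {l : ℕ} (hl : l.Prime) (hlP : l ∣ P) (hlq : ¬ l ∣ q - 1) : l ∣ idx := by
  have hlZ : Prime (l : ℤ) := Nat.prime_iff_prime_int.1 hl
  have h1 := eq_prod hq hS hJ hI fun m hm => (hchk m hm).1
  have h2 := eq_prod hq hS hD hP fun m hm => (hchk m hm).2.1
  have h3 : (l : ℤ) ∣ ∏ m ∈ Finset.range N, E q m ^ (cnt dS m - cnt dD m) := by
    rw [← h2]; exact_mod_cast hlP
  obtain ⟨m, hm, h4⟩ := (hlZ.dvd_finsetProd_iff _).1 h3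
  rw [Finset.mem_range] at hm
  have h5 : cnt dS m - cnt dD m ≠ 0 := by
    intro h0
    rw [h0, pow_zero] at h4
    exact hlZ.not_unit (isUnit_of_dvd_one h4)
  have h6 : (l : ℤ) ∣ E q m := hlZ.dvd_of_dvd_pow h4
  have hm0 : m ≠ 0 := by
    rintro rfl
    apply h5
    have : cnt dS 0 = 0 := by
      unfold cnt
      rw [List.countP_eq_zero]
      intro d hd
      have := (hS d hd).1
      simp only [zero_dvd_iff, decide_eq_true_eq]
      omega
    rw [this, Nat.zero_sub]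
  have hm1 : m ≠ 1 := by
    rintro rfl
    rw [E_one] at h6
    apply hlq
    have h7 : ((q - 1 : ℕ) : ℤ) = (q : ℤ) - 1 := by
      rw [Nat.cast_sub (by omega), Nat.cast_one]
    rw [← h7] at h6
    exact_mod_cast h6
  have h8 := (hchk m hm).2.2 (by omega) (by omega)
  have h9 : (l : ℤ) ∣ (idx : ℤ) := by
    rw [h1]
    refine dvd_trans ?_ (Finset.dvd_prod_of_mem _ (Finset.mem_range.2 hm))
    exact dvd_pow h6 (by omega)
  exact_mod_cast h9

/-- `(q - 1) ^ m ∏_{i < m} (1 + q + … + q^(i+1)) = ∏_{i < m} (q^(i+2) - 1)` -/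
theorem mul_poin {q : ℕ} (hq : 1 ≤ q) (m : ℕ) :
    (q - 1) ^ m * ∏ i ∈ Finset.range m, ∑ t ∈ Finset.range (i + 2), q ^ t =
      ∏ i ∈ Finset.range m, (q ^ (i + 2) - 1) := by
  induction m with
  | zero => simp
  | succ m ih =>
    rw [Finset.prod_range_succ, Finset.prod_range_succ, ← ih, pow_succ]
    have h1 : (q - 1) * ∑ t ∈ Finset.range (m + 2), q ^ t = q ^ (m + 2) - 1 := by
      rw [mul_comm]
      exact geom_sum_mul_of_one_le hq (m + 2)
    rw [← h1]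
    ring

end Cfsg.Agent.H35.PoinNum
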