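import Mathlib
import Cfsg.Agent.H35.Poin
import Cfsg.Agent.H35.PoinNum
import Cfsg.Agent.KFacts.RgdSyl
import Cfsg.Agent.Nodes.RGDChev
import Cfsg.Agent.Nodes.RGDTwE6
import Cfsg.Agent.S1035
import Cfsg.Agent.S1062
import Cfsg.Agent.S1063
import Cfsg.Agent.S1064
import Cfsg.Agent.S1065
import Cfsg.Agent.S1066
import Cfsg.Agent.S1102

/-!
# Exceptional groups: typed root group data with sizes, indices of type `A` parabolic subgroups (helper35, for helper53)

For `F₄(q)`, `E₆(q)`, `E₇(q)`, `E₈(q)`, `²E₆(q)`: root group datum with the orders of the root groups; a prime divisor of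
the order of the group not dividing `q (q - 1)` divides the index of `P_J`, `J` = all nodes but one (branch node; for
`F₄`, `²E₆` a middle node).
-/

set_option autoImplicit false
set_option linter.unusedSectionVars false

namespace Cfsg.Agent.H35.ExcIdx

open CoxeterSystem Cfsg.Agent.ChevalleyStructure.CoxeterGeom Cfsg.Agent.Tits.Roots Cfsg.Agent.Tits.Core
  Cfsg.Agent.Tits.RootComb Cfsg.Agent.Nodes.Comb Cfsg.Agent.Nodes.Reps Cfsg.Agent.Nodes.BNOf
  Cfsg.Agent.Nodes.StabComb Cfsg.Agent.Nodes.Bruhat Cfsg.Agent.Nodes.LeviDec Cfsg.Agent.H35.Poin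
  Cfsg.Agent.H35.PoinNum

section Gen

variable {I W Y : Type*} [Fintype I] [DecidableEq I] [Group W] [Group Y] {M : CoxeterMatrix I}
  {cs : CoxeterSystem M W} {A : I → I → ℤ} {h : IsCartan M A} {p : ℕ} {T : Subgroup Y} {n : I → Y}
  {X : (I → ℤ) → Subgroup Y}

theorem cancel_pow {p a b P Q : ℕ} (hp : 0 < p) (hP : ¬ p ∣ P) (hQ : ¬ p ∣ Q) (h : p ^ a * Q = p ^ b * P) : Q = P := by
  rcases lt_trichotomy a b with hab | rfl | hab
  · exfalso
    apply hQ
    obtain ⟨c, rfl⟩ := Nat.exists_eq_add_of_lt hab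
    have h1 : p ^ (a + c + 1) * P = p ^ a * (p ^ c * p * P) := by ring
    rw [h1] at h
    have h2 := Nat.eq_of_mul_eq_mul_left (pow_pos hp a) h
    rw [h2]
    exact Dvd.dvd.mul_right (Dvd.intro_left _ rfl) _
  · exact Nat.eq_of_mul_eq_mul_left (pow_pos hp a) h
  · exfalso
    apply hP
    obtain ⟨c, rfl⟩ := Nat.exists_eq_add_of_lt hab
    have h1 : p ^ (b + c + 1) * Q = p ^ b * (p ^ c * p * Q) := by ring
    rw [h1] at h
    have h2 := Nat.eq_of_mul_eq_mul_left (pow_pos hp b) h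
    rw [← h2]
    exact Dvd.dvd.mul_right (Dvd.intro_left _ rfl) _

/-- **The equation of the index.** -/
theorem index_eq [Finite W] [Finite Y] [hp : Fact p.Prime] (R : RGD cs h p T n X) (hG : GG cs h T X = ⊤)
    {J : Set I} {N : ℕ} (hN : Nat.card ↥(PJ cs h T X J) = N * Nat.card ↥(RGD.B cs h T X)) {d t P b : ℕ}
    (hd : ¬ p ∣ d) (hT : d * Nat.card T = t) (hS : d * Nat.card Y = p ^ b * P) (hP : ¬ p ∣ P) :
    (PJ cs h T X J).index * N * t = P := by
  obtain ⟨a, ha⟩ := (IsPGroup.iff_card (p := p)).1 R.isPGroup_Upos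
  have h1 : Nat.card Y = (PJ cs h T X J).index * N * Nat.card T * p ^ a := by
    rw [← Subgroup.index_mul_card (PJ cs h T X J), hN, card_B' R, ha]
    ring
  have h2 : (RGD.Sup X (RGD.Pos cs h)).index = (PJ cs h T X J).index * N * Nat.card T := by
    have h3 := Subgroup.index_mul_card (RGD.Sup X (RGD.Pos cs h))
    rw [ha, h1] at h3
    exact Nat.eq_of_mul_eq_mul_right (pow_pos hp.out.pos a) h3
  have h3 : ¬ p ∣ (PJ cs h T X J).index * N * Nat.card T := by
    rw [← h2]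
    have h4 := KFacts.RgdSyl.not_dvd_relIndex R
    rwa [hG, Subgroup.relIndex_top_right] at h4
  refine cancel_pow hp.out.pos hP (a := a) (b := b) ?_ ?_
  · rw [← hT]
    intro h4
    have h5 : (PJ cs h T X J).index * N * (d * Nat.card T) = d * ((PJ cs h T X J).index * N * Nat.card T) := by ring
    rw [h5, hp.out.dvd_mul] at h4
    exact h4.elim hd h3
  · rw [← hS, h1, ← hT]
    ring

/-- the list `C` is a component of type `A` of the list `L` of nodes, `L'` is the rest -/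
structure PathOK (M : CoxeterMatrix I) (L C L' : List I) (i0 : I) : Prop where
  sub : ∀ t < C.length, C.getD t i0 ∈ L
  adj : ∀ t < C.length, t + 1 < C.length → M (C.getD t i0) (C.getD (t + 1) i0) = 3
  far : ∀ t < C.length, ∀ s < C.length, s + 1 < t → M (C.getD s i0) (C.getD t i0) = 2
  out : ∀ j ∈ L, (∀ t < C.length, C.getD t i0 ≠ j) → ∀ t < C.length, M (C.getD t i0) j = 2
  inj : ∀ s < C.length, ∀ t < C.length, C.getD s i0 = C.getD t i0 → s = t
  rest : ∀ j, j ∈ L' ↔ j ∈ L ∧ ∀ t < C.length, C.getD t i0 ≠ j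

theorem cartan_three (h : IsCartan M A) {i j : I} (hij : M i j = 3) : A i j = -1 ∧ A j i = -1 := by
  have hne : i ≠ j := by
    rintro rfl
    rw [M.diagonal] at hij
    omega
  rcases h.rel i j hne with ⟨h1, -⟩ | ⟨-, h2, h3⟩ | ⟨h1, -⟩ | ⟨h1, -⟩
  · omega
  · exact ⟨h2, h3⟩
  · omega
  · omega

theorem cartan_two (h : IsCartan M A) {i j : I} (hij : M i j = 2) : A i j = 0 ∧ A j i = 0 := by
  have hne : i ≠ j := by
    rintro rfl
    rw [M.diagonal] at hij
    omega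
  rcases h.rel i j hne with ⟨-, h2, h3⟩ | ⟨h1, -⟩ | ⟨h1, -⟩ | ⟨h1, -⟩
  · exact ⟨h2, h3⟩
  · omega
  · omega
  · omega

theorem PathOK.apath (h : IsCartan M A) {L C L' : List I} {i0 : I} (hP : PathOK M L C L' i0) :
    APath A {j | j ∈ L} (fun t => C.getD t i0) C.length where
  mem t ht := hP.sub t ht
  adj t ht := cartan_three h (hP.adj t (by omega) ht)
  far s t hs ht := cartan_two h (hP.far t ht s (by omega) hs)
  out j hj hc t ht := (cartan_two h (hP.out j hj hc t ht)).1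
  inj := hP.inj

/-- `∏_{i < m} (1 + y + … + y ^ (i + 1))` -/
def FA (m y : ℕ) : ℕ := ∏ i ∈ Finset.range m, ∑ t ∈ Finset.range (i + 2), y ^ t

theorem card_step [Finite W] [Finite Y] (R : RGD cs h p T n X) {L C L' : List I} {i0 : I}
    (hP : PathOK M L C L' i0) {y : ℕ} (hy : ∀ i ∈ C, Nat.card (X (sr i)) = y) {N : ℕ}
    (hN : Nat.card ↥(PJ cs h T X {j | j ∈ L'}) = N * Nat.card ↥(RGD.B cs h T X)) :
    Nat.card ↥(PJ cs h T X {j | j ∈ L}) = FA C.length y * N * Nat.card ↥(RGD.B cs h T X) := by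
  rw [card_PJ_path R (hP.apath h) (y := y) fun t ht => hy _ (by
    rw [List.getD_eq_getElem?_getD, List.getElem?_eq_getElem ht, Option.getD_some]
    exact List.getElem_mem ht), mul_assoc (FA _ _), ← hN]
  have h1 : ({j | j ∈ L} \ {j | ∃ t < C.length, C.getD t i0 = j} : Set I) = {j | j ∈ L'} := by
    ext j
    simp only [Set.mem_sdiff, Set.mem_ofPred_eq, not_exists, not_and]
    exact (hP.rest j).symm
  rw [h1]
  rfl

theorem card_nil [Finite W] [Finite Y] (R : RGD cs h p T n X) :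
    Nat.card ↥(PJ cs h T X {j | j ∈ ([] : List I)}) = 1 * Nat.card ↥(RGD.B cs h T X) := by
  have h1 : ({j | j ∈ ([] : List I)} : Set I) = ∅ := by ext j; simp
  rw [h1, PJ_empty, one_mul]

theorem not_dvd_pr {p f : ℕ} (hp : p.Prime) (hf : f ≠ 0) : ∀ l : List ℕ, (∀ d ∈ l, 0 < d) → ¬ p ∣ pr (p ^ f) l
  | [], _ => by rw [pr_nil, Nat.dvd_one]; exact hp.one_lt.ne'
  | d :: l, h => by
    rw [pr_cons, hp.dvd_mul, not_or]
    refine ⟨fun h1 => ?_, not_dvd_pr hp hf l fun e he => h e (List.mem_cons_of_mem _ he)⟩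
    have hd := h d List.mem_cons_self
    have h2 : p ∣ (p ^ f) ^ d := dvd_pow (dvd_pow_self p hf) hd.ne'
    have h3 : 1 ≤ (p ^ f) ^ d := Nat.one_le_pow _ _ (pow_pos hp.pos _)
    have h4 : p ∣ 1 := by
      have h5 := Nat.dvd_sub h2 h1
      rwa [Nat.sub_sub_self h3] at h5
    exact hp.one_lt.ne' (Nat.dvd_one.1 h4)

end Gen

/-! ### The split groups -/

section Split

open Cfsg.Lie Cfsg.Agent.ChevalleyStructure Cfsg.Agent.ChevalleyStructure.Elts
  Cfsg.Agent.ChevalleyStructure.RootVec Cfsg.Agent.ChevalleyStructure.RootVecTab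
  Cfsg.Agent.ChevalleyStructure.NPerm Cfsg.Agent.ChevalleyStructure.CoxeterGeomTypes
open Cfsg.Agent.Nodes Cfsg.Agent.Nodes.RGDChev

universe u

variable {D : ChevalleyDatum} {l : ℕ} {M : CoxeterMatrix (Fin l)} (hp : IsType D l M) (K : Type u) [Field K]

/-- the torus -/
abbrev TT (D : ChevalleyDatum) (K : Type u) [Field K] : Subgroup ↥(D.group K) :=
  (D.diagonalSubgroup K).subgroupOf (D.group K)

/-- the root groups -/
abbrev XX (D : ChevalleyDatum) (l : ℕ) (K : Type u) [Field K] (x : Fin l → ℤ) : Subgroup ↥(D.group K) :=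
  (XV D l K x).subgroupOf (D.group K)

theorem card_XX {W : Type*} [Group W] (cs : CoxeterSystem M W) {x : Fin l → ℤ}
    (hx : IsRoot cs hp.isCartan x) : Nat.card ↥(XX D l K x) = Nat.card K := by
  rw [Nat.card_congr (Subgroup.subgroupOfEquivOfLe (XV_le_group hp x)).toEquiv]
  obtain ⟨r, hr, rfl⟩ := (isRoot_iff hp cs x).1 hx
  rw [XV_vec hp K hr]
  symm
  refine Nat.card_congr (Equiv.ofBijective (fun t : K => (⟨xG hp.inList r t,
    xG_mem_rootSubgroup hp.inList r t⟩ : ↥(D.rootSubgroup K r))) ⟨?_, ?_⟩)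
  · intro t u e
    exact xG_injective hp.inList hr (congrArg Subtype.val e)
  · rintro ⟨g, hg⟩
    obtain ⟨t, rfl⟩ := (mem_rootSubgroup_iff hp.inList r g).1 hg
    exact ⟨t, rfl⟩

theorem GG_eq_top {W : Type*} [Group W] (cs : CoxeterSystem M W) :
    GG cs hp.isCartan (TT D K) (XX D l K) = ⊤ := by
  rw [eq_top_iff, ← G1_eq_top hp cs (K := K)]
  exact le_sup_right

variable [Fintype K] {r f : ℕ} (hr : r.Prime) (hf : f ≠ 0) (hK : Fintype.card K = r ^ f) [CharP K r]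

include hr hf hK in
/-- the equation of the index, split groups -/
theorem index_split {W : Type*} [Group W] (cs : CoxeterSystem M W) {J : Set (Fin l)} {N d P : ℕ}
    (hd : ¬ r ∣ d) (hT : d * Nat.card (D.diagonalSubgroup K) = (r ^ f - 1) ^ D.rank)
    (hS : ∃ b, d * Nat.card (D.group K) = r ^ b * P) (hP : ¬ r ∣ P)
    (hN : Nat.card ↥(PJ cs hp.isCartan (TT D K) (XX D l K) J) =
      N * Nat.card ↥(RGD.B cs hp.isCartan (TT D K) (XX D l K))) :
    (PJ cs hp.isCartan (TT D K) (XX D l K) J).index * N * (r ^ f - 1) ^ l = P := by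
  have : Fact r.Prime := ⟨hr⟩
  have hfin := finite_W hp cs
  obtain ⟨b, hb⟩ := hS
  have h1 : Nat.card (TT D K) = Nat.card (D.diagonalSubgroup K) :=
    Nat.card_congr (Subgroup.subgroupOfEquivOfLe (diagonal_le_group hp.inList K)).toEquiv
  refine index_eq (rgd (K := K) hp cs r) (GG_eq_top hp K cs) hN hd ?_ hb hP
  rw [h1, hT, hp.rank_eq]

/-- **Typed root group data**: root group datum of type `M` with root groups of order `f i` at the simple roots;
a prime divisor of the order of the group not dividing `r (q - 1)` divides the index of `P_J`. -/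
structure ExcData (r q : ℕ) {l : ℕ} {M : CoxeterMatrix (Fin l)} {A : Fin l → Fin l → ℤ} (h : IsCartan M A)
    (f : Fin l → ℕ) (J : Set (Fin l)) {S : Type*} [Group S] (T : Subgroup S) (n : Fin l → S)
    (X : (Fin l → ℤ) → Subgroup S) : Prop where
  fin : Finite M.Group
  rgd : RGD M.toCoxeterSystem h r T n X
  g1 : RGDLib.G1 M.toCoxeterSystem h X = ⊤
  gg : GG M.toCoxeterSystem h T X = ⊤
  size : ∀ i, Nat.card (X (sr i)) = f i
  idx : ∀ ℓ : ℕ, ℓ.Prime → ℓ ∣ Nat.card S → ¬ ℓ ∣ r → ¬ ℓ ∣ q - 1 → ℓ ∣ (PJ M.toCoxeterSystem h T X J).index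

theorem not_dvd_of_dvd {r f d : ℕ} (hr : r.Prime) (hf : f ≠ 0) (hd : d ∣ r ^ f - 1) : ¬ r ∣ d := by
  intro h1
  have h2 := not_dvd_pr hr hf [1] (by simp)
  apply h2
  rw [pr_cons, pr_nil, mul_one, pow_one]
  exact h1.trans hd

include hr hf hK in
theorem split_data {J : Set (Fin l)} {N d P : ℕ} (hd : d ∣ r ^ f - 1)
    (hT : d * Nat.card (D.diagonalSubgroup K) = (r ^ f - 1) ^ D.rank)
    (hS : ∃ b, d * Nat.card (D.group K) = r ^ b * P) (hP : ¬ r ∣ P)
    (hN : ∀ R : RGD M.toCoxeterSystem hp.isCartan r (TT D K) (fun i => (⟨nn hp K i, nn_mem_group hp i⟩ : ↥(D.group K)))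
      (XX D l K), (∀ i, Nat.card (XX D l K (sr i)) = r ^ f) →
      Nat.card ↥(PJ M.toCoxeterSystem hp.isCartan (TT D K) (XX D l K) J) =
      N * Nat.card ↥(RGD.B M.toCoxeterSystem hp.isCartan (TT D K) (XX D l K)))
    (hidx : ∀ idx ℓ : ℕ, idx * N * (r ^ f - 1) ^ l = P → ℓ.Prime → ℓ ∣ P → ¬ ℓ ∣ r ^ f - 1 → ℓ ∣ idx) :
    ExcData r (r ^ f) hp.isCartan (fun _ => r ^ f) J (TT D K)
      (fun i => (⟨nn hp K i, nn_mem_group hp i⟩ : ↥(D.group K))) (XX D l K) := by
  have : Fact r.Prime := ⟨hr⟩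
  have hc : ∀ i, Nat.card (XX D l K (sr i)) = r ^ f := fun i => by
    rw [card_XX hp K M.toCoxeterSystem (isRoot_sr _ _ i), Nat.card_eq_fintype_card, hK]
  have hR := rgd (K := K) hp M.toCoxeterSystem r
  refine ⟨finite_W hp M.toCoxeterSystem, hR, G1_eq_top hp _, GG_eq_top hp K _, hc, fun ℓ hℓ h1 h2 h3 => ?_⟩
  refine hidx _ ℓ (index_split hp K hr hf hK M.toCoxeterSystem (not_dvd_of_dvd hr hf hd) hT hS hP (hN hR hc)) hℓ ?_ h3
  obtain ⟨b, hb⟩ := hS
  have h4 : ℓ ∣ r ^ b * P := by rw [← hb]; exact Dvd.dvd.mul_left h1 _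
  rcases hℓ.dvd_mul.1 h4 with h5 | h5
  · exact absurd (hℓ.dvd_of_dvd_pow h5) h2
  · exact h5

end Split

open Cfsg.Lie Cfsg.Agent.Nodes.RGDChev

universe u

variable {K : Type u} [Field K] [Fintype K] {r f : ℕ} (hr : r.Prime) (hf : f ≠ 0)
  (hK : Fintype.card K = r ^ f) [CharP K r]

theorem two_le {r f : ℕ} (hr : r.Prime) (hf : f ≠ 0) : 2 ≤ r ^ f :=
  le_trans hr.two_le (Nat.le_self_pow hf r)

theorem hpF4 : IsType chevF4 4 CoxeterMatrix.F₄ := by simp [IsType, typeList]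
theorem hpE6 : IsType chevE6 6 CoxeterMatrix.E₆ := by simp [IsType, typeList]
theorem hpE7 : IsType chevE7 7 CoxeterMatrix.E₇ := by simp [IsType, typeList]
theorem hpE8 : IsType chevE8 8 CoxeterMatrix.E₈ := by simp [IsType, typeList]

theorem path_E8_3_0 : PathOK CoxeterMatrix.E₈ [0, 1, 2, 4, 5, 6, 7] [0, 2] [1, 4, 5, 6, 7] 0 := by constructor <;> decide +kernel
theorem path_E8_3_1 : PathOK CoxeterMatrix.E₈ [1, 4, 5, 6, 7] [1] [4, 5, 6, 7] 0 := by constructor <;> decide +kernel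
theorem path_E8_3_2 : PathOK CoxeterMatrix.E₈ [4, 5, 6, 7] [4, 5, 6, 7] [] 0 := by constructor <;> decide +kernel

include hr hf hK in
/-- **`E₈(q)`**: `J` = all nodes but `3`, components [[0, 2], [1], [4, 5, 6, 7]]. -/
theorem data_E8_3 : ExcData r (r ^ f) hpE8.isCartan (fun _ => r ^ f) {j | j ≠ 3} (TT chevE8 K)
    (fun i => (⟨nn hpE8 K i, nn_mem_group hpE8 i⟩ : ↥(chevE8.group K))) (XX chevE8 8 K) := by
  have hJ : ({j | j ≠ 3} : Set (Fin 8)) = {j | j ∈ ([0, 1, 2, 4, 5, 6, 7] : List (Fin 8))} := by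
    ext j; revert j; decide
  have h2 := two_le hr hf
  have hfin := finite_W hpE8 CoxeterMatrix.E₈.toCoxeterSystem
  rw [hJ]
  refine split_data hpE8 K hr hf hK (d := 1) (N := FA 2 (r ^ f) * (FA 1 (r ^ f) * (FA 4 (r ^ f) * 1)))
    (P := pr (r ^ f) [2, 8, 12, 14, 18, 20, 24, 30]) (one_dvd _)
    (by rw [← hK]; exact Cfsg.Agent.S1035.result rfl (chevE8, 1) (by simp))
    ⟨f * 120, ?_⟩ (not_dvd_pr hr hf _ (by simp)) (fun R hc => ?_) ?_
  · have h3 := Cfsg.Agent.S1065.result hK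
    rw [pow_mul]
    simp only [pr_cons, pr_nil]
    rw [one_mul, h3]
    ring
  · exact card_step R path_E8_3_0 (fun i _ => hc i) (card_step R path_E8_3_1 (fun i _ => hc i) (card_step R path_E8_3_2 (fun i _ => hc i) (card_nil R)))
  · intro idx ℓ h1 hℓ h3 h4
    refine dvd_index h2 (N := 31) (dS := [2, 8, 12, 14, 18, 20, 24, 30]) (dJ := [1, 2, 3, 2, 2, 3, 4, 5]) (dD := [])
      (by decide) (by decide) (by decide) ?_ (by rw [pr_nil, mul_one]) (by decide) hℓ h3 h4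
    rw [← h1]
    have e1 := mul_poin (show 1 ≤ r ^ f by omega) 1
    have e2 := mul_poin (show 1 ≤ r ^ f by omega) 2
    have e4 := mul_poin (show 1 ≤ r ^ f by omega) 4
    have e : pr (r ^ f) [1, 2, 3, 2, 2, 3, 4, 5] = (r ^ f - 1) ^ 1 * ((∏ i ∈ Finset.range 2, ((r ^ f) ^ (i + 2) - 1)) * (∏ i ∈ Finset.range 1, ((r ^ f) ^ (i + 2) - 1)) * (∏ i ∈ Finset.range 4, ((r ^ f) ^ (i + 2) - 1))) := by
      simp only [pr_cons, pr_nil, Finset.prod_range_succ, Finset.prod_range_zero, pow_one]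
      ring
    rw [e, ← e1, ← e2, ← e4]
    unfold FA
    ring

theorem path_E8_4_0 : PathOK CoxeterMatrix.E₈ [0, 1, 2, 3, 5, 6, 7] [0, 2, 3, 1] [5, 6, 7] 0 := by constructor <;> decide +kernel
theorem path_E8_4_1 : PathOK CoxeterMatrix.E₈ [5, 6, 7] [5, 6, 7] [] 0 := by constructor <;> decide +kernel

include hr hf hK in
/-- **`E₈(q)`**: `J` = all nodes but `4`, components [[0, 2, 3, 1], [5, 6, 7]]. -/
theorem data_E8_4 : ExcData r (r ^ f) hpE8.isCartan (fun _ => r ^ f) {j | j ≠ 4} (TT chevE8 K)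
    (fun i => (⟨nn hpE8 K i, nn_mem_group hpE8 i⟩ : ↥(chevE8.group K))) (XX chevE8 8 K) := by
  have hJ : ({j | j ≠ 4} : Set (Fin 8)) = {j | j ∈ ([0, 1, 2, 3, 5, 6, 7] : List (Fin 8))} := by
    ext j; revert j; decide
  have h2 := two_le hr hf
  have hfin := finite_W hpE8 CoxeterMatrix.E₈.toCoxeterSystem
  rw [hJ]
  refine split_data hpE8 K hr hf hK (d := 1) (N := FA 4 (r ^ f) * (FA 3 (r ^ f) * 1))
    (P := pr (r ^ f) [2, 8, 12, 14, 18, 20, 24, 30]) (one_dvd _)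
    (by rw [← hK]; exact Cfsg.Agent.S1035.result rfl (chevE8, 1) (by simp))
    ⟨f * 120, ?_⟩ (not_dvd_pr hr hf _ (by simp)) (fun R hc => ?_) ?_
  · have h3 := Cfsg.Agent.S1065.result hK
    rw [pow_mul]
    simp only [pr_cons, pr_nil]
    rw [one_mul, h3]
    ring
  · exact card_step R path_E8_4_0 (fun i _ => hc i) (card_step R path_E8_4_1 (fun i _ => hc i) (card_nil R))
  · intro idx ℓ h1 hℓ h3 h4
    refine dvd_index h2 (N := 31) (dS := [2, 8, 12, 14, 18, 20, 24, 30]) (dJ := [1, 2, 3, 4, 5, 2, 3, 4]) (dD := [])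
      (by decide) (by decide) (by decide) ?_ (by rw [pr_nil, mul_one]) (by decide) hℓ h3 h4
    rw [← h1]
    have e3 := mul_poin (show 1 ≤ r ^ f by omega) 3
    have e4 := mul_poin (show 1 ≤ r ^ f by omega) 4
    have e : pr (r ^ f) [1, 2, 3, 4, 5, 2, 3, 4] = (r ^ f - 1) ^ 1 * ((∏ i ∈ Finset.range 4, ((r ^ f) ^ (i + 2) - 1)) * (∏ i ∈ Finset.range 3, ((r ^ f) ^ (i + 2) - 1))) := by
      simp only [pr_cons, pr_nil, Finset.prod_range_succ, Finset.prod_range_zero, pow_one]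
      ring
    rw [e, ← e3, ← e4]
    unfold FA
    ring

theorem path_E7_3_0 : PathOK CoxeterMatrix.E₇ [0, 1, 2, 4, 5, 6] [0, 2] [1, 4, 5, 6] 0 := by constructor <;> decide +kernel
theorem path_E7_3_1 : PathOK CoxeterMatrix.E₇ [1, 4, 5, 6] [1] [4, 5, 6] 0 := by constructor <;> decide +kernel
theorem path_E7_3_2 : PathOK CoxeterMatrix.E₇ [4, 5, 6] [4, 5, 6] [] 0 := by constructor <;> decide +kernel

include hr hf hK in
/-- **`E₇(q)`**: `J` = all nodes but `3`, components [[0, 2], [1], [4, 5, 6]]. -/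
theorem data_E7_3 : ExcData r (r ^ f) hpE7.isCartan (fun _ => r ^ f) {j | j ≠ 3} (TT chevE7 K)
    (fun i => (⟨nn hpE7 K i, nn_mem_group hpE7 i⟩ : ↥(chevE7.group K))) (XX chevE7 7 K) := by
  have hJ : ({j | j ≠ 3} : Set (Fin 7)) = {j | j ∈ ([0, 1, 2, 4, 5, 6] : List (Fin 7))} := by
    ext j; revert j; decide
  have h2 := two_le hr hf
  have hfin := finite_W hpE7 CoxeterMatrix.E₇.toCoxeterSystem
  rw [hJ]
  refine split_data hpE7 K hr hf hK (d := Nat.gcd 2 (r ^ f - 1)) (N := FA 2 (r ^ f) * (FA 1 (r ^ f) * (FA 3 (r ^ f) * 1)))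
    (P := pr (r ^ f) [2, 6, 8, 10, 12, 14, 18]) (Nat.gcd_dvd_right _ _)
    (by rw [← hK]; exact Cfsg.Agent.S1035.result rfl (chevE7, Nat.gcd 2 (Fintype.card K - 1)) (by simp))
    ⟨f * 63, ?_⟩ (not_dvd_pr hr hf _ (by simp)) (fun R hc => ?_) ?_
  · have h3 := Cfsg.Agent.S1064.result hK
    rw [pow_mul]
    simp only [pr_cons, pr_nil]
    rw [h3]
    ring
  · exact card_step R path_E7_3_0 (fun i _ => hc i) (card_step R path_E7_3_1 (fun i _ => hc i) (card_step R path_E7_3_2 (fun i _ => hc i) (card_nil R)))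
  · intro idx ℓ h1 hℓ h3 h4
    refine dvd_index h2 (N := 31) (dS := [2, 6, 8, 10, 12, 14, 18]) (dJ := [1, 2, 3, 2, 2, 3, 4]) (dD := [])
      (by decide) (by decide) (by decide) ?_ (by rw [pr_nil, mul_one]) (by decide) hℓ h3 h4
    rw [← h1]
    have e1 := mul_poin (show 1 ≤ r ^ f by omega) 1
    have e2 := mul_poin (show 1 ≤ r ^ f by omega) 2
    have e3 := mul_poin (show 1 ≤ r ^ f by omega) 3
    have e : pr (r ^ f) [1, 2, 3, 2, 2, 3, 4] = (r ^ f - 1) ^ 1 * ((∏ i ∈ Finset.range 2, ((r ^ f) ^ (i + 2) - 1)) * (∏ i ∈ Finset.range 1, ((r ^ f) ^ (i + 2) - 1)) * (∏ i ∈ Finset.range 3, ((r ^ f) ^ (i + 2) - 1))) := by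
      simp only [pr_cons, pr_nil, Finset.prod_range_succ, Finset.prod_range_zero, pow_one]
      ring
    rw [e, ← e1, ← e2, ← e3]
    unfold FA
    ring

theorem path_E6_3_0 : PathOK CoxeterMatrix.E₆ [0, 1, 2, 4, 5] [0, 2] [1, 4, 5] 0 := by constructor <;> decide +kernel
theorem path_E6_3_1 : PathOK CoxeterMatrix.E₆ [1, 4, 5] [1] [4, 5] 0 := by constructor <;> decide +kernel
theorem path_E6_3_2 : PathOK CoxeterMatrix.E₆ [4, 5] [4, 5] [] 0 := by constructor <;> decide +kernel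

include hr hf hK in
/-- **`E₆(q)`**: `J` = all nodes but `3`, components [[0, 2], [1], [4, 5]]. -/
theorem data_E6_3 : ExcData r (r ^ f) hpE6.isCartan (fun _ => r ^ f) {j | j ≠ 3} (TT chevE6 K)
    (fun i => (⟨nn hpE6 K i, nn_mem_group hpE6 i⟩ : ↥(chevE6.group K))) (XX chevE6 6 K) := by
  have hJ : ({j | j ≠ 3} : Set (Fin 6)) = {j | j ∈ ([0, 1, 2, 4, 5] : List (Fin 6))} := by
    ext j; revert j; decide
  have h2 := two_le hr hf
  have hfin := finite_W hpE6 CoxeterMatrix.E₆.toCoxeterSystem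
  rw [hJ]
  refine split_data hpE6 K hr hf hK (d := Nat.gcd 3 (r ^ f - 1)) (N := FA 2 (r ^ f) * (FA 1 (r ^ f) * (FA 2 (r ^ f) * 1)))
    (P := pr (r ^ f) [2, 5, 6, 8, 9, 12]) (Nat.gcd_dvd_right _ _)
    (by rw [← hK]; exact Cfsg.Agent.S1035.result rfl (chevE6, Nat.gcd 3 (Fintype.card K - 1)) (by simp))
    ⟨f * 36, ?_⟩ (not_dvd_pr hr hf _ (by simp)) (fun R hc => ?_) ?_
  · have h3 := Cfsg.Agent.S1063.result hK
    rw [pow_mul]
    simp only [pr_cons, pr_nil]
    rw [h3]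
    ring
  · exact card_step R path_E6_3_0 (fun i _ => hc i) (card_step R path_E6_3_1 (fun i _ => hc i) (card_step R path_E6_3_2 (fun i _ => hc i) (card_nil R)))
  · intro idx ℓ h1 hℓ h3 h4
    refine dvd_index h2 (N := 31) (dS := [2, 5, 6, 8, 9, 12]) (dJ := [1, 2, 3, 2, 2, 3]) (dD := [])
      (by decide) (by decide) (by decide) ?_ (by rw [pr_nil, mul_one]) (by decide) hℓ h3 h4
    rw [← h1]
    have e1 := mul_poin (show 1 ≤ r ^ f by omega) 1
    have e2 := mul_poin (show 1 ≤ r ^ f by omega) 2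
    have e : pr (r ^ f) [1, 2, 3, 2, 2, 3] = (r ^ f - 1) ^ 1 * ((∏ i ∈ Finset.range 2, ((r ^ f) ^ (i + 2) - 1)) * (∏ i ∈ Finset.range 1, ((r ^ f) ^ (i + 2) - 1)) * (∏ i ∈ Finset.range 2, ((r ^ f) ^ (i + 2) - 1))) := by
      simp only [pr_cons, pr_nil, Finset.prod_range_succ, Finset.prod_range_zero, pow_one]
      ring
    rw [e, ← e1, ← e2]
    unfold FA
    ring

theorem path_F4_1_0 : PathOK CoxeterMatrix.F₄ [0, 2, 3] [0] [2, 3] 0 := by constructor <;> decide +kernel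
theorem path_F4_1_1 : PathOK CoxeterMatrix.F₄ [2, 3] [2, 3] [] 0 := by constructor <;> decide +kernel

include hr hf hK in
/-- **`F₄(q)`**: `J` = all nodes but `1`, components [[0], [2, 3]]. -/
theorem data_F4_1 : ExcData r (r ^ f) hpF4.isCartan (fun _ => r ^ f) {j | j ≠ 1} (TT chevF4 K)
    (fun i => (⟨nn hpF4 K i, nn_mem_group hpF4 i⟩ : ↥(chevF4.group K))) (XX chevF4 4 K) := by
  have hJ : ({j | j ≠ 1} : Set (Fin 4)) = {j | j ∈ ([0, 2, 3] : List (Fin 4))} := by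
    ext j; revert j; decide
  have h2 := two_le hr hf
  have hfin := finite_W hpF4 CoxeterMatrix.F₄.toCoxeterSystem
  rw [hJ]
  refine split_data hpF4 K hr hf hK (d := 1) (N := FA 1 (r ^ f) * (FA 2 (r ^ f) * 1))
    (P := pr (r ^ f) [2, 6, 8, 12]) (one_dvd _)
    (by rw [← hK]; exact Cfsg.Agent.S1035.result rfl (chevF4, 1) (by simp))
    ⟨f * 24, ?_⟩ (not_dvd_pr hr hf _ (by simp)) (fun R hc => ?_) ?_
  · have h3 := Cfsg.Agent.S1062.result hK
    rw [pow_mul]
    simp only [pr_cons, pr_nil]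
    rw [one_mul, h3]
    ring
  · exact card_step R path_F4_1_0 (fun i _ => hc i) (card_step R path_F4_1_1 (fun i _ => hc i) (card_nil R))
  · intro idx ℓ h1 hℓ h3 h4
    refine dvd_index h2 (N := 31) (dS := [2, 6, 8, 12]) (dJ := [1, 2, 2, 3]) (dD := [])
      (by decide) (by decide) (by decide) ?_ (by rw [pr_nil, mul_one]) (by decide) hℓ h3 h4
    rw [← h1]
    have e1 := mul_poin (show 1 ≤ r ^ f by omega) 1
    have e2 := mul_poin (show 1 ≤ r ^ f by omega) 2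
    have e : pr (r ^ f) [1, 2, 2, 3] = (r ^ f - 1) ^ 1 * ((∏ i ∈ Finset.range 1, ((r ^ f) ^ (i + 2) - 1)) * (∏ i ∈ Finset.range 2, ((r ^ f) ^ (i + 2) - 1))) := by
      simp only [pr_cons, pr_nil, Finset.prod_range_succ, Finset.prod_range_zero, pow_one]
      ring
    rw [e, ← e1, ← e2]
    unfold FA
    ring

theorem path_F4_2_0 : PathOK CoxeterMatrix.F₄ [0, 1, 3] [0, 1] [3] 0 := by constructor <;> decide +kernel
theorem path_F4_2_1 : PathOK CoxeterMatrix.F₄ [3] [3] [] 0 := by constructor <;> decide +kernel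

include hr hf hK in
/-- **`F₄(q)`**: `J` = all nodes but `2`, components [[0, 1], [3]]. -/
theorem data_F4_2 : ExcData r (r ^ f) hpF4.isCartan (fun _ => r ^ f) {j | j ≠ 2} (TT chevF4 K)
    (fun i => (⟨nn hpF4 K i, nn_mem_group hpF4 i⟩ : ↥(chevF4.group K))) (XX chevF4 4 K) := by
  have hJ : ({j | j ≠ 2} : Set (Fin 4)) = {j | j ∈ ([0, 1, 3] : List (Fin 4))} := by
    ext j; revert j; decide
  have h2 := two_le hr hf
  have hfin := finite_W hpF4 CoxeterMatrix.F₄.toCoxeterSystem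
  rw [hJ]
  refine split_data hpF4 K hr hf hK (d := 1) (N := FA 2 (r ^ f) * (FA 1 (r ^ f) * 1))
    (P := pr (r ^ f) [2, 6, 8, 12]) (one_dvd _)
    (by rw [← hK]; exact Cfsg.Agent.S1035.result rfl (chevF4, 1) (by simp))
    ⟨f * 24, ?_⟩ (not_dvd_pr hr hf _ (by simp)) (fun R hc => ?_) ?_
  · have h3 := Cfsg.Agent.S1062.result hK
    rw [pow_mul]
    simp only [pr_cons, pr_nil]
    rw [one_mul, h3]
    ring
  · exact card_step R path_F4_2_0 (fun i _ => hc i) (card_step R path_F4_2_1 (fun i _ => hc i) (card_nil R))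
  · intro idx ℓ h1 hℓ h3 h4
    refine dvd_index h2 (N := 31) (dS := [2, 6, 8, 12]) (dJ := [1, 2, 3, 2]) (dD := [])
      (by decide) (by decide) (by decide) ?_ (by rw [pr_nil, mul_one]) (by decide) hℓ h3 h4
    rw [← h1]
    have e1 := mul_poin (show 1 ≤ r ^ f by omega) 1
    have e2 := mul_poin (show 1 ≤ r ^ f by omega) 2
    have e : pr (r ^ f) [1, 2, 3, 2] = (r ^ f - 1) ^ 1 * ((∏ i ∈ Finset.range 2, ((r ^ f) ^ (i + 2) - 1)) * (∏ i ∈ Finset.range 1, ((r ^ f) ^ (i + 2) - 1))) := by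
      simp only [pr_cons, pr_nil, Finset.prod_range_succ, Finset.prod_range_zero, pow_one]
      ring
    rw [e, ← e1, ← e2]
    unfold FA
    ring

end Cfsg.Agent.H35.ExcIdx
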