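import Mathlib
import Cfsg.Agent.H35.ExcIdx

/-!
# `²E₆(q)`: typed root group datum with sizes, indices of type `A` parabolic subgroups (helper35, for helper53)
-/

set_option autoImplicit false
set_option linter.unusedSectionVars false

namespace Cfsg.Agent.H35.ExcIdx

open CoxeterSystem Cfsg.Agent.ChevalleyStructure.CoxeterGeom Cfsg.Agent.Tits.Roots Cfsg.Agent.Tits.Core
  Cfsg.Agent.Tits.RootComb Cfsg.Agent.Nodes.Comb Cfsg.Agent.Nodes.Reps Cfsg.Agent.Nodes.BNOf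
  Cfsg.Agent.Nodes.StabComb Cfsg.Agent.Nodes.Bruhat Cfsg.Agent.Nodes.LeviDec Cfsg.Agent.H35.Poin
  Cfsg.Agent.H35.PoinNum
open Cfsg.Lie Cfsg.Agent.ChevalleyStructure Cfsg.Agent.ChevalleyStructure.TwE6BN
open Cfsg.Agent.ChevalleyStructure.TwE6Basic (posE negE sg fix n exists_frob twisted_le_fix)

universe u

variable {K : Type u} [Field K] [Fintype K] {q : ℕ} {φ : K →+* K}

/-- the order of the simple root groups of `²E₆(q)`: `q` for the nodes `0`, `1` (long), `q²` for the nodes `2`, `3` -/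
def fE (q : ℕ) (i : Fin 4) : ℕ := if (i : ℕ) < 2 then q else q ^ 2

theorem card_X_tw (hφ : ∀ x, φ x = x ^ q) (hqq : ∀ t : K, (t ^ q) ^ q = t) (hq : 1 < q)
    (hK : Fintype.card K = q ^ 2) (i : Fin 4) : Nat.card ↥(Nodes.RGDTwE6.X φ q (sr i)) = fE q i := by
  have h1 : Nat.card ↥(Nodes.RGDTwE6.X φ q (sr i)) =
      Nat.card {x : GL chevE6.Idx K // x ∈ rs K (posE i) ∧ x ∈ twistedE6 K q} := by
    unfold Nodes.RGDTwE6.X
    rw [Nodes.RGDTwE6.R_pos]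
    refine Nat.card_congr
      { toFun := fun x => ⟨x.1.1, (Subgroup.mem_inf.1 (Subgroup.mem_subgroupOf.1 x.2)).1, x.1.2⟩
        invFun := fun x => ⟨⟨x.1, x.2.2⟩, Subgroup.mem_subgroupOf.2
          (Subgroup.mem_inf.2 ⟨x.2.1, twisted_le_fix φ hφ hqq x.2.2⟩)⟩
        left_inv := fun x => rfl
        right_inv := fun x => rfl }
  rw [h1]
  fin_cases i
  · exact TwE6Card.card_single φ hφ hqq hq hK single0
  · exact TwE6Card.card_single φ hφ hqq hq hK single1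
  · exact TwE6Card.card_pair φ hφ hqq hK pair2
  · exact TwE6Card.card_pair φ hφ hqq hK pair3

theorem path_T_0 : PathOK CoxeterMatrix.F₄ [0, 1, 3] [0, 1] [3] 0 := by constructor <;> decide +kernel
theorem path_T_1 : PathOK CoxeterMatrix.F₄ [3] [3] [] 0 := by constructor <;> decide +kernel
theorem path_T_2 : PathOK CoxeterMatrix.F₄ [0, 2, 3] [0] [2, 3] 0 := by constructor <;> decide +kernel
theorem path_T_3 : PathOK CoxeterMatrix.F₄ [2, 3] [2, 3] [] 0 := by constructor <;> decide +kernel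

/-- the part of the order prime to the characteristic -/
def PT (q : ℕ) : ℕ := (q ^ 2 - 1) * (q ^ 5 + 1) * (q ^ 6 - 1) * (q ^ 8 - 1) * (q ^ 9 + 1) * (q ^ 12 - 1)

theorem PT_mul {q : ℕ} (hq : 1 ≤ q) : PT q * pr q [5, 9] = pr q [2, 6, 8, 10, 12, 18] := by
  have h1 : (q ^ 5 + 1) * (q ^ 5 - 1) = q ^ 10 - 1 := by
    have := Nat.one_le_pow 5 q (by omega)
    obtain ⟨x, hx⟩ := Nat.exists_eq_add_of_le this
    have h2 : q ^ 10 = (1 + x) * (1 + x) := by rw [← hx]; ring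
    rw [h2, hx, Nat.add_sub_cancel_left]
    symm
    apply Nat.sub_eq_of_eq_add
    ring
  have h3 : (q ^ 9 + 1) * (q ^ 9 - 1) = q ^ 18 - 1 := by
    have := Nat.one_le_pow 9 q (by omega)
    obtain ⟨x, hx⟩ := Nat.exists_eq_add_of_le this
    have h2 : q ^ 18 = (1 + x) * (1 + x) := by rw [← hx]; ring
    rw [h2, hx, Nat.add_sub_cancel_left]
    symm
    apply Nat.sub_eq_of_eq_add
    ring
  unfold PT
  simp only [pr_cons, pr_nil]
  rw [← h1, ← h3]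
  ring

theorem fac {q : ℕ} (hq : 1 ≤ q) : q ^ 2 - 1 = (q - 1) * (q + 1) ∧ q ^ 3 - 1 = (q - 1) * (1 + q + q ^ 2) ∧
    q ^ 4 - 1 = (q - 1) * (q + 1) * (1 + q ^ 2) ∧ q ^ 6 - 1 = (q - 1) * (q + 1) * (1 + q ^ 2 + q ^ 4) := by
  obtain ⟨x, rfl⟩ := Nat.exists_eq_add_of_le hq
  rw [Nat.add_sub_cancel_left]
  refine ⟨?_, ?_, ?_, ?_⟩ <;> (apply Nat.sub_eq_of_eq_add; ring)

variable {r f : ℕ} (hr : r.Prime) (hf : f ≠ 0) (hq : q = r ^ f) [CharP K r]
  (hφ : ∀ x, φ x = x ^ q) (hqq : ∀ t : K, (t ^ q) ^ q = t) (hK : Fintype.card K = q ^ 2)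

include hr hf hq hqq hK in
theorem tw_data {J : Set (Fin 4)} {N : ℕ} {dJ : List ℕ}
    (hN : ∀ R : RGD CoxeterMatrix.F₄.toCoxeterSystem Nodes.RGDTwE6.isCartan r (Nodes.RGDTwE6.T K q)
      (Nodes.RGDTwE6.nn hφ) (Nodes.RGDTwE6.X φ q), Finite CoxeterMatrix.F₄.Group →
      (∀ i, Nat.card (Nodes.RGDTwE6.X φ q (sr i)) = fE q i) →
      Nat.card ↥(PJ CoxeterMatrix.F₄.toCoxeterSystem Nodes.RGDTwE6.isCartan (Nodes.RGDTwE6.T K q)
        (Nodes.RGDTwE6.X φ q) J) =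
      N * Nat.card ↥(RGD.B CoxeterMatrix.F₄.toCoxeterSystem Nodes.RGDTwE6.isCartan (Nodes.RGDTwE6.T K q)
        (Nodes.RGDTwE6.X φ q)))
    (hdJ : ∀ d ∈ dJ, 0 < d ∧ d < 31)
    (hNJ : N * ((q - 1) ^ 4 * (q + 1) ^ 2) * pr q [5, 9] = pr q dJ)
    (hchk : ∀ m < 31, cnt dJ m ≤ cnt [2, 6, 8, 10, 12, 18] m ∧
      cnt [5, 9] m ≤ cnt [2, 6, 8, 10, 12, 18] m ∧
      (2 ≤ m → cnt [5, 9] m < cnt [2, 6, 8, 10, 12, 18] m → cnt dJ m < cnt [2, 6, 8, 10, 12, 18] m)) :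
    ExcData r q Nodes.RGDTwE6.isCartan (fE q) J (Nodes.RGDTwE6.T K q)
      (Nodes.RGDTwE6.nn hφ) (Nodes.RGDTwE6.X φ q) := by
  have : Fact r.Prime := ⟨hr⟩
  have h2 : 2 ≤ q := by rw [hq]; exact two_le hr hf
  have hpp : IsPrimePow q := by rw [hq]; exact hr.isPrimePow.pow hf
  have hfin : Finite CoxeterMatrix.F₄.Group := Nodes.RGDFold.finite_W (hp := Nodes.RGDTwE6.hp)
    CoxeterMatrix.F₄.toCoxeterSystem Nodes.RGDTwE6.isCartan Nodes.RGDTwE6.foldData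
  have hR := Nodes.RGDTwE6.rgd CoxeterMatrix.F₄.toCoxeterSystem hφ hqq r
  have hG1 : Nodes.RGDLib.G1 CoxeterMatrix.F₄.toCoxeterSystem Nodes.RGDTwE6.isCartan (Nodes.RGDTwE6.X φ q) = ⊤ :=
    Nodes.RGDTwE6.G1_eq_top _ hφ hqq
  have hGG : GG CoxeterMatrix.F₄.toCoxeterSystem Nodes.RGDTwE6.isCartan (Nodes.RGDTwE6.T K q)
      (Nodes.RGDTwE6.X φ q) = ⊤ := by
    rw [eq_top_iff, ← hG1]
    exact le_sup_right
  have hc := card_X_tw (φ := φ) hφ hqq (by omega) hK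
  have hP : ¬ r ∣ PT q := by
    intro h3
    have h4 : r ∣ pr q [2, 6, 8, 10, 12, 18] := by
      rw [← PT_mul (by omega)]; exact Dvd.dvd.mul_right h3 _
    rw [hq] at h4
    exact not_dvd_pr hr hf _ (by simp) h4
  have hT : Nat.gcd 3 (q + 1) * Nat.card ↥(Nodes.RGDTwE6.T K q) = (q - 1) ^ 4 * (q + 1) ^ 2 := by
    rw [← Cfsg.Agent.S1102.result hpp hK]
    congr 1
    exact Nat.card_congr (Subgroup.subgroupOfEquivOfLe inf_le_right).toEquiv
  have hd : ¬ r ∣ Nat.gcd 3 (q + 1) := by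
    intro h3
    have h4 : r ∣ q + 1 := h3.trans (Nat.gcd_dvd_right _ _)
    have h5 : r ∣ q := by rw [hq]; exact dvd_pow_self r hf
    exact hr.one_lt.ne' (Nat.dvd_one.1 ((Nat.dvd_add_right h5).1 h4))
  have hS : Nat.gcd 3 (q + 1) * Nat.card ↥(twistedE6 K q) = r ^ (f * 36) * PT q := by
    rw [Cfsg.Agent.S1066.result hpp hK, pow_mul, ← hq]
    unfold PT
    ring
  refine ⟨hfin, hR, hG1, hGG, hc, fun ℓ hℓ h3 h4 h5 => ?_⟩
  have h6 := index_eq hR hGG (hN hR hfin hc) hd hT hS hP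
  refine dvd_index h2 (N := 31) (dS := [2, 6, 8, 10, 12, 18]) (dJ := dJ) (dD := [5, 9]) (by decide) hdJ (by decide)
    ?_ (PT_mul (by omega)) hchk hℓ ?_ h5
  · rw [← hNJ, ← PT_mul (by omega), ← h6]
    ring
  · have h7 : ℓ ∣ r ^ (f * 36) * PT q := by rw [← hS]; exact Dvd.dvd.mul_left h3 _
    rcases hℓ.dvd_mul.1 h7 with h8 | h8
    · exact absurd (hℓ.dvd_of_dvd_pow h8) h4
    · exact h8

include hr hf hq hqq hK in
/-- **`²E₆(q)`**: `J = {0, 1, 3}`, components `{0, 1}` (parameter `q`), `{3}` (parameter `q²`). -/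
theorem data_TwE6_2 : ExcData r q Nodes.RGDTwE6.isCartan (fE q) {j | j ≠ 2} (Nodes.RGDTwE6.T K q)
    (Nodes.RGDTwE6.nn hφ) (Nodes.RGDTwE6.X φ q) := by
  have hJ : ({j | j ≠ 2} : Set (Fin 4)) = {j | j ∈ ([0, 1, 3] : List (Fin 4))} := by
    ext j; revert j; decide
  rw [hJ]
  refine tw_data hr hf hq hφ hqq hK (N := FA 2 q * (FA 1 (q ^ 2) * 1)) (dJ := [2, 2, 3, 4, 5, 9])
    (fun R hfin hc => ?_) (by decide) ?_ (by decide)
  · refine card_step R path_T_0 (fun i hi => ?_) (card_step R path_T_1 (fun i hi => ?_) (card_nil R))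
    · rw [hc]; revert i; simp [fE]
    · rw [hc]; revert i; simp [fE]
  · have h2 : 1 ≤ q := by rw [hq]; have := two_le hr hf; omega
    obtain ⟨e1, e2, e3, e4⟩ := fac h2
    simp only [pr_cons, pr_nil, FA, Finset.prod_range_succ, Finset.prod_range_zero, Finset.sum_range_succ,
      Finset.sum_range_zero]
    rw [e1, e2, e3]
    ring

include hr hf hq hqq hK in
/-- **`²E₆(q)`**: `J = {0, 2, 3}`, components `{0}` (parameter `q`), `{2, 3}` (parameter `q²`). -/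
theorem data_TwE6_1 : ExcData r q Nodes.RGDTwE6.isCartan (fE q) {j | j ≠ 1} (Nodes.RGDTwE6.T K q)
    (Nodes.RGDTwE6.nn hφ) (Nodes.RGDTwE6.X φ q) := by
  have hJ : ({j | j ≠ 1} : Set (Fin 4)) = {j | j ∈ ([0, 2, 3] : List (Fin 4))} := by
    ext j; revert j; decide
  rw [hJ]
  refine tw_data hr hf hq hφ hqq hK (N := FA 1 q * (FA 2 (q ^ 2) * 1)) (dJ := [1, 2, 4, 5, 6, 9])
    (fun R hfin hc => ?_) (by decide) ?_ (by decide)
  · refine card_step R path_T_2 (fun i hi => ?_) (card_step R path_T_3 (fun i hi => ?_) (card_nil R))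
    · rw [hc]; revert i; simp [fE]
    · rw [hc]; revert i; simp [fE]
  · have h2 : 1 ≤ q := by rw [hq]; have := two_le hr hf; omega
    obtain ⟨e1, e2, e3, e4⟩ := fac h2
    simp only [pr_cons, pr_nil, FA, Finset.prod_range_succ, Finset.prod_range_zero, Finset.sum_range_succ,
      Finset.sum_range_zero]
    rw [e1, e3, e4]
    ring

end Cfsg.Agent.H35.ExcIdx
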