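import Mathlib

/-!
# The Frobenius group `q : (q - 1) / 2` in `PSL₂(q)`, `q` odd
-/

set_option autoImplicit false

open Subgroup Matrix

namespace Cfsg.Agent.H35.BorelTwo

variable {E : Type*} [Field E]

/-- upper unitriangular matrices -/
def u : Multiplicative E →* SpecialLinearGroup (Fin 2) E where
  toFun x := ⟨!![1, x.toAdd; 0, 1], by simp [Matrix.det_fin_two]⟩
  map_one' := by
    ext i j
    fin_cases i <;> fin_cases j <;> simp
  map_mul' x y := by
    apply Subtype.ext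
    show (!![1, (x * y).toAdd; 0, 1] : Matrix (Fin 2) (Fin 2) E) =
      (!![1, x.toAdd; 0, 1] : Matrix (Fin 2) (Fin 2) E) * !![1, y.toAdd; 0, 1]
    rw [Matrix.mul_fin_two]
    simp [add_comm]

/-- diagonal matrices -/
def t : Eˣ →* SpecialLinearGroup (Fin 2) E where
  toFun a := ⟨!![(a : E), 0; 0, ((a⁻¹ : Eˣ) : E)], by simp [Matrix.det_fin_two]⟩
  map_one' := by
    ext i j
    fin_cases i <;> fin_cases j <;> simp
  map_mul' x y := by
    apply Subtype.ext
    show (!![((x * y : Eˣ) : E), 0; 0, (((x * y)⁻¹ : Eˣ) : E)] : Matrix (Fin 2) (Fin 2) E) =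
      (!![(x : E), 0; 0, ((x⁻¹ : Eˣ) : E)] : Matrix (Fin 2) (Fin 2) E) * !![(y : E), 0; 0, ((y⁻¹ : Eˣ) : E)]
    rw [Matrix.mul_fin_two]
    simp [mul_comm]

theorem u_coe (x : Multiplicative E) : (u x : Matrix (Fin 2) (Fin 2) E) = !![1, x.toAdd; 0, 1] := rfl

theorem t_coe (a : Eˣ) : (t a : Matrix (Fin 2) (Fin 2) E) = !![(a : E), 0; 0, ((a⁻¹ : Eˣ) : E)] := rfl

theorem t_u (a : Eˣ) (x : E) : t a * u (Multiplicative.ofAdd x) =
    u (Multiplicative.ofAdd ((a : E) ^ 2 * x)) * t a := by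
  apply Subtype.ext
  rw [Matrix.SpecialLinearGroup.coe_mul, Matrix.SpecialLinearGroup.coe_mul, u_coe, u_coe, t_coe, toAdd_ofAdd,
    toAdd_ofAdd, Matrix.mul_fin_two, Matrix.mul_fin_two]
  have h1 : (a : E) * x = (a : E) ^ 2 * x * ((a⁻¹ : Eˣ) : E) := by
    have h2 : (a : E) * ((a⁻¹ : Eˣ) : E) = 1 := Units.mul_inv a
    calc (a : E) * x = (a : E) * x * ((a : E) * ((a⁻¹ : Eˣ) : E)) := by rw [h2, mul_one]
      _ = _ := by ring
  simp [h1]

theorem u_mem_center {x : E} (h : u (Multiplicative.ofAdd x) ∈ center (SpecialLinearGroup (Fin 2) E)) : x = 0 := by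
  rw [Matrix.SpecialLinearGroup.mem_center_iff] at h
  obtain ⟨r, -, hr⟩ := h
  rw [u_coe] at hr
  have := congrFun (congrFun hr 0) 1
  simpa using this.symm

theorem t_mem_center {a : Eˣ} : t a ∈ center (SpecialLinearGroup (Fin 2) E) ↔ a ^ 2 = 1 := by
  rw [Matrix.SpecialLinearGroup.mem_center_iff]
  constructor
  · rintro ⟨r, hr2, hr⟩
    rw [t_coe] at hr
    have h0 := congrFun (congrFun hr 0) 0
    have h1 : r = a := by simpa using h0
    apply Units.ext
    rw [Units.val_pow_eq_pow_val, ← h1, Units.val_one]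
    simpa using hr2
  · intro h
    refine ⟨a, ?_, ?_⟩
    · have := congrArg Units.val h
      simpa using this
    · have h2 : a⁻¹ = a := by
        rw [inv_eq_iff_mul_eq_one, ← pow_two, h]
      rw [t_coe, h2]
      ext i j
      fin_cases i <;> fin_cases j <;> simp

/-- **The Borel subgroup of `PSL₂(q)`.** -/
theorem borel {E : Type*} [Field E] [Fintype E] {p : ℕ} [CharP E p] (hp : p.Prime) (hp2 : p ≠ 2) :
    ∃ (Q : Subgroup (ProjectiveSpecialLinearGroup (Fin 2) E)) (c : ProjectiveSpecialLinearGroup (Fin 2) E),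
      IsPGroup p Q ∧ Q ≠ ⊥ ∧ c ∈ normalizer (Q : Set (ProjectiveSpecialLinearGroup (Fin 2) E)) ∧
      orderOf c = (Fintype.card E - 1) / 2 ∧
      ∀ j, 0 < j → j < orderOf c → ∀ a ∈ Q, a * c ^ j = c ^ j * a → a = 1 := by
  classical
  have hFp : Fact p.Prime := ⟨hp⟩
  obtain ⟨n, -, hn⟩ := FiniteField.card E p
  have hodd : Odd (Fintype.card E) := by
    rw [hn]
    exact (hp.odd_of_ne_two hp2).pow
  have h3 : 3 ≤ Fintype.card E := by
    have h1 : 1 < Fintype.card E := Fintype.one_lt_card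
    obtain ⟨k, hk⟩ := hodd
    omega
  set N := (Fintype.card E - 1) / 2 with hN
  have hN2 : Fintype.card E - 1 = 2 * N := by
    obtain ⟨k, hk⟩ := hodd
    omega
  let mk : SpecialLinearGroup (Fin 2) E →* ProjectiveSpecialLinearGroup (Fin 2) E :=
    QuotientGroup.mk' (center (SpecialLinearGroup (Fin 2) E))
  have hmk1 : ∀ g : SpecialLinearGroup (Fin 2) E, mk g = 1 ↔ g ∈ center (SpecialLinearGroup (Fin 2) E) :=
    fun g => QuotientGroup.eq_one_iff g
  obtain ⟨a, ha⟩ := IsCyclic.exists_generator (α := Eˣ)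
  have hao : orderOf a = 2 * N := by
    rw [orderOf_eq_card_of_forall_mem_zpowers ha, Nat.card_eq_fintype_card, Fintype.card_units, hN2]
  have hpow : ∀ j : ℕ, (a ^ j) ^ 2 = 1 ↔ N ∣ j := by
    intro j
    rw [← pow_mul, ← orderOf_dvd_iff_pow_eq_one, hao, mul_comm j 2]
    exact Nat.mul_dvd_mul_iff_left (by norm_num)
  have hcj : ∀ j : ℕ, mk (t a) ^ j = 1 ↔ N ∣ j := by
    intro j
    rw [← map_pow, ← map_pow, hmk1, t_mem_center, hpow]
  have hco : orderOf (mk (t a)) = N := by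
    apply Nat.dvd_antisymm
    · exact orderOf_dvd_of_pow_eq_one ((hcj N).2 dvd_rfl)
    · exact (hcj _).1 (pow_orderOf_eq_one _)
  refine ⟨(mk.comp u).range, mk (t a), ?_, ?_, ?_, hco, ?_⟩
  · rintro ⟨_, x, rfl⟩
    refine ⟨1, Subtype.ext ?_⟩
    show ((mk.comp u) x) ^ p ^ 1 = 1
    rw [pow_one, ← map_pow]
    have h1 : x ^ p = 1 := by
      apply Multiplicative.toAdd.injective
      rw [toAdd_pow, toAdd_one, nsmul_eq_mul, CharP.cast_eq_zero, zero_mul]
    rw [h1, map_one]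
  · intro hbot
    have h1 : (mk.comp u) (Multiplicative.ofAdd 1) ∈ (mk.comp u).range := ⟨_, rfl⟩
    rw [hbot, mem_bot] at h1
    exact one_ne_zero (u_mem_center ((hmk1 _).1 h1))
  · apply mem_normalizer_fintype
    rintro _ ⟨x, rfl⟩
    refine ⟨Multiplicative.ofAdd ((a : E) ^ 2 * x.toAdd), ?_⟩
    show mk (u _) = mk (t a) * mk (u x) * (mk (t a))⁻¹
    rw [← map_mul, ← map_inv, ← map_mul]
    have h1 := t_u a x.toAdd
    rw [ofAdd_toAdd] at h1
    rw [h1, mul_assoc, mul_inv_cancel, mul_one]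
  · rintro j h0 hj _ ⟨x, rfl⟩ hcom
    rw [hco] at hj
    have h1 : mk (u x * t (a ^ j)) = mk (t (a ^ j) * u x) := by
      rw [map_mul, map_mul, map_pow, map_pow]
      exact hcom
    have h2 := t_u (a ^ j) x.toAdd
    rw [ofAdd_toAdd] at h2
    rw [h2, ← inv_mul_eq_one, ← map_inv, ← map_mul, hmk1] at h1
    -- a unitriangular matrix in the centre
    have h3 : (u x * t (a ^ j))⁻¹ * (u (Multiplicative.ofAdd (((a ^ j : Eˣ) : E) ^ 2 * x.toAdd)) * t (a ^ j)) =
        (t (a ^ j))⁻¹ * u (x⁻¹ * Multiplicative.ofAdd (((a ^ j : Eˣ) : E) ^ 2 * x.toAdd)) * t (a ^ j) := by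
      have hinv : u x⁻¹ = (u x)⁻¹ := by
        apply eq_inv_of_mul_eq_one_left
        rw [← u.map_mul, inv_mul_cancel, u.map_one]
      rw [u.map_mul, hinv]
      group
    rw [h3] at h1
    have h4 : u (x⁻¹ * Multiplicative.ofAdd (((a ^ j : Eˣ) : E) ^ 2 * x.toAdd)) ∈
        center (SpecialLinearGroup (Fin 2) E) := by
      have := (inferInstance : (center (SpecialLinearGroup (Fin 2) E)).Normal).conj_mem _ h1 (t (a ^ j))
      rw [show t (a ^ j) * ((t (a ^ j))⁻¹ * u (x⁻¹ * Multiplicative.ofAdd (((a ^ j : Eˣ) : E) ^ 2 * x.toAdd)) *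
        t (a ^ j)) * (t (a ^ j))⁻¹ = u (x⁻¹ * Multiplicative.ofAdd (((a ^ j : Eˣ) : E) ^ 2 * x.toAdd)) by group] at this
      exact this
    have h5 : ((a ^ j : Eˣ) : E) ^ 2 * x.toAdd - x.toAdd = 0 := by
      have h6 : x⁻¹ * Multiplicative.ofAdd (((a ^ j : Eˣ) : E) ^ 2 * x.toAdd) =
          Multiplicative.ofAdd (((a ^ j : Eˣ) : E) ^ 2 * x.toAdd - x.toAdd) := by
        apply Multiplicative.toAdd.injective
        rw [toAdd_mul, toAdd_inv, toAdd_ofAdd, toAdd_ofAdd]
        ring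
      rw [h6] at h4
      exact u_mem_center h4
    have h7 : (((a ^ j : Eˣ) : E) ^ 2 - 1) * x.toAdd = 0 := by
      rw [sub_mul, one_mul]; exact h5
    rcases mul_eq_zero.1 h7 with h8 | h8
    · exfalso
      have h9 : (a ^ j) ^ 2 = 1 := by
        apply Units.ext
        rw [Units.val_pow_eq_pow_val, Units.val_one]
        exact sub_eq_zero.1 h8
      have h10 := Nat.le_of_dvd h0 ((hpow j).1 h9)
      omega
    · have h9 : x = 1 := by
        apply Multiplicative.toAdd.injective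
        rw [h8, toAdd_one]
      rw [h9, map_one]

end Cfsg.Agent.H35.BorelTwo
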