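import Mathlib
import Cfsg.Agent.H413.FrobLift
import Cfsg.Agent.Lib.SolvableMinNormal

/-!
# A solvable kernel is a `p`-group (spectrum arguments)

`Dat p Ord S`: `S` is a simple normal subgroup of `Y`; for every prime `l` there is a prime `s ∣ |S|`, `s ≠ l, p`, such
that `s l` is not an allowed order; for every prime `r ≠ p` there is a Frobenius type subgroup `Q⟨c⟩` of `Y`, `Q ≤ S` a
`p`-group, such that `|c| r` is not an allowed order.

`Dat.ker`: if all element orders of `G` are allowed then the solvable kernel of every epimorphism `G → Y` is a `p`-group.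
-/

set_option autoImplicit false

open Subgroup

namespace Cfsg.Agent.H35.KerP

universe u v

/-- the data -/
structure Dat (p : ℕ) (Ord : ℕ → Prop) {Y : Type v} [Group Y] (S : Subgroup Y) : Prop where
  prime : p.Prime
  normal : S.Normal
  simple : IsSimpleGroup S
  dvd : ∀ l : ℕ, l.Prime → ∃ s : ℕ, s.Prime ∧ s ∣ Nat.card S ∧ s ≠ l ∧ s ≠ p ∧ ¬ Ord (s * l)
  frob : ∀ r : ℕ, r.Prime → r ≠ p → ∃ (Q : Subgroup Y) (c : Y), Q ≤ S ∧ IsPGroup p Q ∧ Q ≠ ⊥ ∧
    c ∈ normalizer (Q : Set Y) ∧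
    (∀ j, 0 < j → j < orderOf c → ∀ a ∈ Q, a * c ^ j = c ^ j * a → a = 1) ∧ ¬ Ord (orderOf c * r)

/-- element orders of quotients -/
theorem exists_orderOf {X L : Type*} [Group X] [Finite X] [Group L] (π : X →* L)
    (hπ : Function.Surjective π) (g : L) : ∃ x : X, orderOf x = orderOf g := by
  obtain ⟨x, rfl⟩ := hπ g
  obtain ⟨k, hk⟩ := orderOf_map_dvd π x
  have hpos := orderOf_pos x
  have hk0 : k ≠ 0 := by rintro rfl; omega
  refine ⟨x ^ k, ?_⟩
  rw [orderOf_pow' x hk0, hk, Nat.gcd_mul_left_left, Nat.mul_div_cancel _ (Nat.pos_of_ne_zero hk0)]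

/-- a nontrivial elementary abelian normal subgroup inside a solvable normal subgroup -/
theorem exists_elem {G : Type*} [Group G] [Finite G] (N : Subgroup G) [hNn : N.Normal]
    (hs : Group.IsSolvable N) (hN : N ≠ ⊥) : ∃ r : ℕ, r.Prime ∧ ∃ V : Subgroup G, V.Normal ∧ V ≤ N ∧ V ≠ ⊥ ∧
      (∀ a ∈ V, ∀ b ∈ V, a * b = b * a) ∧ ∀ a ∈ V, a ^ r = 1 := by
  have hnt : Nontrivial N := (Subgroup.nontrivial_iff_ne_bot N).2 hN
  obtain ⟨q, hq, A, hAc, hAm, hAp, hA1⟩ := Lib.SolvableMinNormal.exists_characteristic_pgroup (G := N)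
  have : Fact q.Prime := ⟨hq⟩
  have hcomm : ∀ x ∈ A, ∀ y ∈ A, (x : G) * y = y * x := by
    intro x hx y hy
    have := hAm.is_comm.comm ⟨x, hx⟩ ⟨y, hy⟩
    exact congrArg Subtype.val (congrArg Subtype.val this)
  let V : Subgroup G :=
    { carrier := {x | ∃ y ∈ A, (y : G) = x ∧ x ^ q = 1}
      one_mem' := ⟨1, A.one_mem, rfl, one_pow _⟩
      mul_mem' := by
        rintro _ _ ⟨x, hx, rfl, hx1⟩ ⟨y, hy, rfl, hy1⟩
        refine ⟨x * y, A.mul_mem hx hy, rfl, ?_⟩
        rw [(show Commute (x : G) y from hcomm x hx y hy).mul_pow, hx1, hy1, one_mul]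
      inv_mem' := by
        rintro _ ⟨x, hx, rfl, hx1⟩
        exact ⟨x⁻¹, A.inv_mem hx, rfl, by rw [inv_pow, hx1, inv_one]⟩ }
  refine ⟨q, hq, V, ?_, ?_, ?_, ?_, ?_⟩
  · refine ⟨?_⟩
    rintro _ ⟨y, hy, rfl, h1⟩ g
    have h2 : (⟨g * y * g⁻¹, hNn.conj_mem y y.2 g⟩ : N) ∈ A := by
      have := (Subgroup.characteristic_iff_map_le.1 hAc) (MulAut.conjNormal g)
        (mem_map_of_mem (MulAut.conjNormal g : N ≃* N).toMonoidHom hy)
      have h3 : (MulAut.conjNormal g : N ≃* N).toMonoidHom y = ⟨g * y * g⁻¹, hNn.conj_mem y y.2 g⟩ :=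
        Subtype.ext (MulAut.conjNormal_apply g y)
      rwa [h3] at this
    exact ⟨_, h2, rfl, by rw [conj_pow, h1, mul_one, mul_inv_cancel]⟩
  · rintro _ ⟨y, hy, rfl, -⟩
    exact y.2
  · intro hbot
    apply hA1
    rw [eq_bot_iff]
    intro y hy
    rw [mem_bot]
    by_contra hy1
    obtain ⟨k, hk⟩ := hAp ⟨y, hy⟩
    have hk' : y ^ q ^ k = 1 := congrArg Subtype.val hk
    obtain ⟨j, _, hj⟩ := (Nat.dvd_prime_pow hq).1 (orderOf_dvd_of_pow_eq_one hk')
    have h1 : orderOf y ≠ 1 := by rwa [Ne, orderOf_eq_one_iff]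
    have hqy : q ∣ orderOf y := by
      rw [hj]
      apply dvd_pow_self
      rintro rfl
      exact h1 (by rw [hj, pow_zero])
    have h2 : orderOf (y ^ (orderOf y / q)) = q := orderOf_pow_orderOf_div (orderOf_pos y).ne' hqy
    have h3 : ((y ^ (orderOf y / q) : N) : G) ∈ V := by
      refine ⟨y ^ (orderOf y / q), A.pow_mem hy _, rfl, ?_⟩
      rw [← Subgroup.coe_pow]
      nth_rw 2 [← h2]
      rw [pow_orderOf_eq_one]
      rfl
    rw [hbot, mem_bot] at h3
    have h4 : y ^ (orderOf y / q) = 1 := Subtype.ext h3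
    rw [h4, orderOf_one] at h2
    exact hq.one_lt.ne h2
  · rintro _ ⟨x, hx, rfl, -⟩ _ ⟨y, hy, rfl, -⟩
    exact hcomm x hx y hy
  · rintro _ ⟨x, hx, rfl, h⟩
    exact h

theorem orderOf_eq_of_pow {G : Type*} [Group G] {r : ℕ} (hr : r.Prime) {a : G} (ha : a ^ r = 1) (h1 : a ≠ 1) :
    orderOf a = r := by
  rcases (Nat.dvd_prime hr).1 (orderOf_dvd_of_pow_eq_one ha) with h | h
  · exact absurd (orderOf_eq_one_iff.1 h) h1
  · exact h

/-- a `p`-element of exponent `r ≠ p` is trivial -/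
theorem eq_one_of_pgroup {G : Type*} [Group G] {p r : ℕ} (hp : p.Prime) (hr : r.Prime) (hpr : r ≠ p)
    {T : Subgroup G} (hT : IsPGroup p T) {a : G} (ha : a ∈ T) (har : a ^ r = 1) : a = 1 := by
  by_contra h1
  have h2 := orderOf_eq_of_pow hr har h1
  obtain ⟨k, hk⟩ := hT ⟨a, ha⟩
  have hk' : a ^ p ^ k = 1 := congrArg Subtype.val hk
  have h3 := orderOf_dvd_of_pow_eq_one hk'
  rw [h2] at h3
  exact hpr ((Nat.prime_dvd_prime_iff_eq hr hp).1 (hr.dvd_of_dvd_pow h3))

/-- `FrobLift.exists_order` without the splitting hypothesis -/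
theorem exists_order' {G : Type*} [Group G] [Finite G] (V T : Subgroup G) [V.Normal] {s : ℕ} (hs : s.Prime)
    (hVc : ∀ a ∈ V, ∀ b ∈ V, a * b = b * a) (hVs : ∀ a ∈ V, a ^ s = 1)
    (hTs : ¬ s ∣ Nat.card T) {c : G} (hcT : c ∈ normalizer (T : Set G)) {n : ℕ} (hn : 0 < n) (hcn : c ^ n ∈ V)
    (hnc : n ∣ orderOf c)
    (hfree : ∀ j, 0 < j → j < n → ∀ a ∈ T, a * c ^ j = c ^ j * a → a = 1)
    (hact : ∃ a ∈ T, ∃ v ∈ V, a * v ≠ v * a) : ∃ g : G, orderOf g = n * s := by
  by_cases h1 : c ^ n = 1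
  · refine Cfsg.Agent.H413.FrobLift.exists_order V T hs hVc hVs hTs (c := c) ?_ hn h1 hfree hact
    intro a ha
    have h2 := (mem_normalizer_iff.1 ((normalizer (T : Set G)).inv_mem hcT) a).1 ha
    rwa [inv_inv] at h2
  · refine ⟨c, ?_⟩
    have h2 := orderOf_eq_of_pow hs (hVs _ hcn) h1
    rw [orderOf_pow_of_dvd hn.ne' hnc] at h2
    rw [← h2, Nat.mul_div_cancel' hnc]

/-- two commuting elements -/
theorem exists_mul {G : Type*} [Group G] [Finite G] {s l : ℕ} (hs : s.Prime) (hl : l.Prime) (hsl : s ≠ l) {y a : G}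
    (hy : s ∣ orderOf y) (ha : orderOf a = l) (hc : Commute y a) : ∃ g : G, orderOf g = s * l := by
  have h1 : orderOf (y ^ (orderOf y / s)) = s := orderOf_pow_orderOf_div (orderOf_pos y).ne' hy
  refine ⟨y ^ (orderOf y / s) * a, ?_⟩
  rw [(hc.pow_left _).orderOf_mul_eq_mul_orderOf_of_coprime, h1, ha]
  rw [h1, ha]
  exact (Nat.coprime_primes hs hl).2 hsl

/-- If the centraliser of the nontrivial normal `l`-subgroup `E` covers `S`, then `s l` is an element order for every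
prime `s ∣ |S|`, `s ≠ l`. -/
theorem exists_of_triv {X : Type*} [Group X] [Finite X] {Y : Type*} [Group Y] [Finite Y] (π : X →* Y)
    {S : Subgroup Y} {E : Subgroup X} {l : ℕ} (hl : l.Prime) (hE : E ≠ ⊥) (hEl : ∀ a ∈ E, a ^ l = 1)
    (h : S ≤ (centralizer (E : Set X)).map π) {s : ℕ} (hs : s.Prime) (hsl : s ≠ l) (hsS : s ∣ Nat.card S) :
    ∃ g : X, orderOf g = s * l := by
  have := Fact.mk hs
  obtain ⟨⟨z, hzS⟩, hz⟩ := exists_prime_orderOf_dvd_card' s hsS
  rw [Subgroup.orderOf_mk] at hz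
  obtain ⟨y, hy, rfl⟩ := h hzS
  obtain ⟨a, ha, ha1⟩ : ∃ a ∈ E, a ≠ 1 := by
    by_contra hcon
    push Not at hcon
    exact hE (eq_bot_iff.2 fun x hx => mem_bot.2 (hcon x hx))
  refine exists_mul hs hl hsl (hz ▸ orderOf_map_dvd π y) (orderOf_eq_of_pow hl (hEl a ha) ha1) ?_
  exact ((mem_centralizer_iff.1 hy) a ha).symm

/-- normal subgroups of `Y` and the simple normal subgroup `S` -/
theorem le_or_inf {Y : Type*} [Group Y] {S : Subgroup Y} (_hSn : S.Normal) (hS : IsSimpleGroup S) {N : Subgroup Y}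
    (hN : N.Normal) : S ≤ N ∨ N ⊓ S = ⊥ := by
  have h1 : (N.subgroupOf S).Normal := inferInstance
  rcases h1.eq_bot_or_eq_top with h | h
  · right
    rw [subgroupOf_eq_bot] at h
    exact h.eq_bot
  · left
    exact subgroupOf_eq_top.1 h

/-- kernel of a solvable group extension step -/
theorem isPGroup_of_lift {G : Type*} [Group G] {Y : Type*} [Group Y] {p : ℕ} (π : G →* Y) (M : Subgroup G) [M.Normal]
    (hM : M ≤ π.ker) (hMp : IsPGroup p M) (h : IsPGroup p (QuotientGroup.lift M π hM).ker) : IsPGroup p π.ker := by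
  rintro ⟨x, hx⟩
  have hx' : (x : G ⧸ M) ∈ (QuotientGroup.lift M π hM).ker := hx
  obtain ⟨k, hk⟩ := h ⟨(x : G ⧸ M), hx'⟩
  have hk' : (x : G ⧸ M) ^ p ^ k = 1 := congrArg Subtype.val hk
  have h1 : x ^ p ^ k ∈ M := by
    rw [← QuotientGroup.eq_one_iff, QuotientGroup.mk_pow, hk']
  obtain ⟨l, hl⟩ := hMp ⟨_, h1⟩
  have hl' : (x ^ p ^ k) ^ p ^ l = 1 := congrArg Subtype.val hl
  refine ⟨k + l, Subtype.ext ?_⟩
  show x ^ p ^ (k + l) = 1
  rw [pow_add, pow_mul, hl']

/-- **Case A**: the kernel is elementary abelian. -/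
theorem caseA {p : ℕ} {Ord : ℕ → Prop} {Y : Type v} [Group Y] [Finite Y] {S : Subgroup Y} (D : Dat p Ord S)
    {G : Type u} [Group G] [Finite G] (hG : ∀ x : G, Ord (orderOf x)) (π : G →* Y) (hπ : Function.Surjective π)
    {M : Subgroup G} (hMn : M.Normal) {r : ℕ} (hr : r.Prime) (hrp : r ≠ p) (hMc : ∀ a ∈ M, ∀ b ∈ M, a * b = b * a)
    (hMr : ∀ a ∈ M, a ^ r = 1) (hM1 : M ≠ ⊥) (hk : π.ker ≤ M) : False := by
  have hSn := D.normal
  rcases le_or_inf D.normal D.simple ((inferInstance : (centralizer (M : Set G)).Normal).map π hπ) with h | h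
  · obtain ⟨s, hs, hsS, hsl, -, hno⟩ := D.dvd r hr
    obtain ⟨g, hg⟩ := exists_of_triv π hr hM1 hMr h hs hsl hsS
    exact hno (hg ▸ hG g)
  · obtain ⟨Q, c, hQS, hQp, hQ1, hcQ, hfree, hno⟩ := D.frob r hr hrp
    obtain ⟨T, d, hTp, hTQ, hdT, hdc⟩ := Cfsg.Agent.H413.FrobLift.exists_lift π hπ D.prime Q hQp hcQ
    have := Fact.mk D.prime
    obtain ⟨g, hg⟩ := exists_order' M T hr hMc hMr (s := r) (c := d) (n := orderOf c) (by
        obtain ⟨k, hk⟩ := IsPGroup.iff_card.1 hTp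
        rw [hk]
        intro h1
        exact hrp ((Nat.prime_dvd_prime_iff_eq hr D.prime).1 (hr.dvd_of_dvd_pow h1))) hdT (orderOf_pos c) (by
        apply hk
        rw [MonoidHom.mem_ker, map_pow, hdc, pow_orderOf_eq_one]) (by
        rw [← hdc]
        exact orderOf_map_dvd π d) (by
        intro j h0 hj a ha hac
        have h1 : π a = 1 := by
          refine hfree j h0 hj (π a) (hTQ ▸ mem_map_of_mem π ha) ?_
          rw [← hdc, ← map_pow, ← map_mul, hac, map_mul]
        exact eq_one_of_pgroup D.prime hr hrp hTp ha (hMr a (hk h1))) (by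
        by_contra hcon
        push Not at hcon
        apply hQ1
        rw [eq_bot_iff, ← h, ← hTQ]
        refine le_inf (map_mono fun a ha => ?_) (hTQ ▸ hQS)
        rw [mem_centralizer_iff]
        intro v hv
        exact (hcon a ha v hv).symm)
    exact hno (hg ▸ hG g)

/-- the central elements of order dividing `p` in a nontrivial normal `p`-subgroup -/
theorem exists_central {G : Type*} [Group G] [Finite G] {p : ℕ} (hp : p.Prime) (T : Subgroup G) (hTn : T.Normal)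
    (hT : IsPGroup p T) (hT1 : T ≠ ⊥) : ∃ V : Subgroup G, V.Normal ∧ V ≤ T ∧ V ≠ ⊥ ∧ (∀ v ∈ V, v ^ p = 1) ∧
      ∀ v ∈ V, ∀ t ∈ T, v * t = t * v := by
  have := Fact.mk hp
  let V : Subgroup G :=
    { carrier := {x | x ∈ T ∧ (∀ y ∈ T, x * y = y * x) ∧ x ^ p = 1}
      one_mem' := ⟨T.one_mem, fun y _ => by simp, one_pow _⟩
      mul_mem' := by
        rintro x y ⟨hx, hx1, hx2⟩ ⟨hy, hy1, hy2⟩
        refine ⟨T.mul_mem hx hy, ?_, ?_⟩
        · intro z hz
          rw [mul_assoc, hy1 z hz, ← mul_assoc, hx1 z hz, mul_assoc]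
        · rw [(show Commute x y from hx1 y hy).mul_pow, hx2, hy2, one_mul]
      inv_mem' := by
        rintro x ⟨hx, hx1, hx2⟩
        refine ⟨T.inv_mem hx, ?_, by rw [inv_pow, hx2, inv_one]⟩
        intro y hy
        exact ((show Commute x y from hx1 y hy).inv_left).eq }
  refine ⟨V, ⟨?_⟩, fun x hx => hx.1, ?_, fun v hv => hv.2.2, fun v hv => hv.2.1⟩
  · rintro x ⟨hx, hx1, hx2⟩ g
    refine ⟨hTn.conj_mem x hx g, ?_, by rw [conj_pow, hx2, mul_one, mul_inv_cancel]⟩
    intro y hy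
    have h1 : g⁻¹ * y * g ∈ T := by
      have := hTn.conj_mem y hy g⁻¹
      rwa [inv_inv] at this
    have h2 := hx1 _ h1
    calc g * x * g⁻¹ * y = g * (x * (g⁻¹ * y * g)) * g⁻¹ := by group
      _ = g * (g⁻¹ * y * g * x) * g⁻¹ := by rw [h2]
      _ = y * (g * x * g⁻¹) := by group
  · have : Nontrivial T := (Subgroup.nontrivial_iff_ne_bot T).2 hT1
    have hc : Nontrivial (center T) := hT.center_nontrivial
    obtain ⟨k, hk⟩ := IsPGroup.iff_card.1 (hT.to_subgroup (center T))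
    have h1 : 1 < Nat.card (center T) := Finite.one_lt_card
    have h2 : p ∣ Nat.card (center T) := by
      rw [hk] at h1 ⊢
      apply dvd_pow_self
      rintro rfl
      simp at h1
    obtain ⟨z, hz⟩ := exists_prime_orderOf_dvd_card' (G := center T) p h2
    intro hbot
    have h3 : ((z : T) : G) ∈ V := by
      refine ⟨z.1.2, ?_, ?_⟩
      · intro y hy
        have := (mem_center_iff.1 z.2) ⟨y, hy⟩
        exact (congrArg Subtype.val this).symm
      · have h4 : (z : center T) ^ p = 1 := by rw [← hz, pow_orderOf_eq_one]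
        exact congrArg (fun w : center T => ((w : T) : G)) h4
    rw [hbot, mem_bot] at h3
    have h4 : z = 1 := Subtype.ext (Subtype.ext h3)
    rw [h4, orderOf_one] at hz
    exact hp.one_lt.ne hz

/-- A prime order element acting nontrivially on a normal elementary abelian `p`-subgroup, `s ≠ p`: a Frobenius
group. -/
theorem exists_frob {X : Type*} [Group X] [Finite X] {p s : ℕ} (hp : p.Prime) (hs : s.Prime) (hsp : s ≠ p)
    (E : Subgroup X) [hEn : E.Normal] (hEc : ∀ a ∈ E, ∀ b ∈ E, a * b = b * a) (hEp : ∀ a ∈ E, a ^ p = 1)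
    {z : X} (hz : orderOf z = s) (hzE : ∃ a ∈ E, z * a ≠ a * z) :
    ∃ Q : Subgroup X, Q ≤ E ∧ Q ≠ ⊥ ∧ z ∈ normalizer (Q : Set X) ∧
      ∀ j, 0 < j → j < s → ∀ a ∈ Q, a * z ^ j = z ^ j * a → a = 1 := by
  classical
  -- the subgroup of the commutators
  let Q : Subgroup X :=
    { carrier := {x | ∃ e ∈ E, x = e⁻¹ * (z * e * z⁻¹)}
      one_mem' := ⟨1, E.one_mem, by simp⟩
      mul_mem' := by
        rintro _ _ ⟨a, ha, rfl⟩ ⟨b, hb, rfl⟩
        refine ⟨a * b, E.mul_mem ha hb, ?_⟩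
        have h1 : z * a * z⁻¹ ∈ E := hEn.conj_mem a ha z
        have h2 := hEc _ h1 _ (E.inv_mem hb)
        calc a⁻¹ * (z * a * z⁻¹) * (b⁻¹ * (z * b * z⁻¹)) = a⁻¹ * ((z * a * z⁻¹) * b⁻¹) * (z * b * z⁻¹) := by group
          _ = a⁻¹ * (b⁻¹ * (z * a * z⁻¹)) * (z * b * z⁻¹) := by rw [h2]
          _ = (a⁻¹ * b⁻¹) * (z * (a * b) * z⁻¹) := by group
          _ = (b⁻¹ * a⁻¹) * (z * (a * b) * z⁻¹) := by rw [hEc _ (E.inv_mem ha) _ (E.inv_mem hb)]
          _ = (a * b)⁻¹ * (z * (a * b) * z⁻¹) := by group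
      inv_mem' := by
        rintro _ ⟨a, ha, rfl⟩
        refine ⟨a⁻¹, E.inv_mem ha, ?_⟩
        have h1 : z * a⁻¹ * z⁻¹ ∈ E := hEn.conj_mem _ (E.inv_mem ha) z
        calc (a⁻¹ * (z * a * z⁻¹))⁻¹ = (z * a⁻¹ * z⁻¹) * a := by group
          _ = a * (z * a⁻¹ * z⁻¹) := hEc _ h1 _ ha
          _ = (a⁻¹)⁻¹ * (z * a⁻¹ * z⁻¹) := by group }
  have hQE : Q ≤ E := by
    rintro _ ⟨a, ha, rfl⟩
    exact E.mul_mem (E.inv_mem ha) (hEn.conj_mem a ha z)
  refine ⟨Q, hQE, ?_, ?_, ?_⟩
  · obtain ⟨a, ha, hza⟩ := hzE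
    intro hbot
    have h1 : a⁻¹ * (z * a * z⁻¹) ∈ Q := ⟨a, ha, rfl⟩
    rw [hbot, mem_bot] at h1
    apply hza
    calc z * a = a * (a⁻¹ * (z * a * z⁻¹)) * z := by group
      _ = a * z := by rw [h1]; group
  · apply mem_normalizer_fintype
    rintro _ ⟨a, ha, rfl⟩
    exact ⟨z * a * z⁻¹, hEn.conj_mem a ha z, by group⟩
  · rintro j h0 hj _ ⟨e, he, rfl⟩ hcom
    set x := e⁻¹ * (z * e * z⁻¹) with hx
    have hxE : x ∈ E := hQE ⟨e, he, rfl⟩
    -- `z` commutes with `x`
    have hc : Commute z x := by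
      have h1 : Commute (z ^ j) x := hcom.symm
      have hcop : Nat.Coprime j s := by
        rw [Nat.coprime_comm]
        exact (Nat.Prime.coprime_iff_not_dvd hs).2 fun h => absurd (Nat.le_of_dvd h0 h) (by omega)
      obtain ⟨i, hi⟩ := exists_pow_eq_self_of_coprime (x := z) (n := j) (by rw [hz]; exact hcop)
      have h2 := h1.pow_left i
      rwa [hi] at h2
    -- the telescope
    have key : ∀ i : ℕ, x ^ i = e⁻¹ * (z ^ i * e * (z ^ i)⁻¹) := by
      intro i
      induction i with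
      | zero => simp
      | succ i ih =>
        have h1 : z ^ i * x * (z ^ i)⁻¹ = x := by
          have := (hc.pow_left i).eq
          rw [this]; group
        have hEi : z ^ i * e * (z ^ i)⁻¹ ∈ E := hEn.conj_mem e he _
        have h2 : x = (z ^ i * e * (z ^ i)⁻¹)⁻¹ * (z ^ (i + 1) * e * (z ^ (i + 1))⁻¹) := by
          conv_lhs => rw [← h1, hx]
          rw [pow_succ]
          group
        calc x ^ (i + 1) = x ^ i * x := pow_succ x i
          _ = e⁻¹ * (z ^ i * e * (z ^ i)⁻¹) * ((z ^ i * e * (z ^ i)⁻¹)⁻¹ * (z ^ (i + 1) * e * (z ^ (i + 1))⁻¹)) := by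
            rw [← h2, ← ih]
          _ = _ := by group
    have h3 : x ^ s = 1 := by
      rw [key s, ← hz, pow_orderOf_eq_one]
      group
    by_contra hx1
    have h4 := orderOf_eq_of_pow hs h3 hx1
    have h5 := orderOf_eq_of_pow hp (hEp x hxE) hx1
    exact hsp (h4.symm.trans h5)

/-- The normal `p`-subgroups of the kernel are trivial: so are the `p`-subgroups of `C_K(M)`. -/
theorem eq_bot_of_cent {G : Type*} [Group G] [Finite G] {p : ℕ} (hp : p.Prime) {K M : Subgroup G} (hKn : K.Normal)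
    (hMn : M.Normal) (hMK : M ≤ K) (hMc : ∀ a ∈ M, ∀ b ∈ M, a * b = b * a)
    (hO : ∀ P : Subgroup G, P.Normal → P ≤ K → IsPGroup p P → P = ⊥)
    (hKM : ∀ x ∈ K, ∃ k : ℕ, x ^ p ^ k ∈ M) {T : Subgroup G} (hT : IsPGroup p T) (hTK : T ≤ K)
    (hTM : ∀ a ∈ T, ∀ v ∈ M, a * v = v * a) : T = ⊥ := by
  have := Fact.mk hp
  set C : Subgroup G := centralizer (M : Set G) ⊓ K with hC
  have hCn : C.Normal := by rw [hC]; infer_instance
  have hTC : T ≤ C := by
    refine le_inf (fun a ha => ?_) hTK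
    rw [mem_centralizer_iff]
    intro v hv
    exact (hTM a ha v hv).symm
  have hMC : M ≤ C := by
    refine le_inf (fun a ha => ?_) hMK
    rw [mem_centralizer_iff]
    intro v hv
    exact hMc v hv a ha
  -- `C` is nilpotent
  have hCq : IsPGroup p (C ⧸ (M.subgroupOf C)) := by
    intro y
    obtain ⟨x, rfl⟩ := QuotientGroup.mk_surjective y
    obtain ⟨k, hk⟩ := hKM x x.2.2
    refine ⟨k, ?_⟩
    rw [← QuotientGroup.mk_pow, QuotientGroup.eq_one_iff, mem_subgroupOf]
    exact hk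
  have hq : Group.IsNilpotent (C ⧸ (M.subgroupOf C)) := hCq.isNilpotent
  have hn : Group.IsNilpotent C := by
    refine Subgroup.isNilpotent_of_ker_le_center (QuotientGroup.mk' (M.subgroupOf C)) ?_
    rw [QuotientGroup.ker_mk']
    intro x hx
    rw [mem_center_iff]
    intro y
    apply Subtype.ext
    exact ((mem_centralizer_iff.1 y.2.1) x (mem_subgroupOf.1 hx)).symm
  have hsyl : ∀ (t : ℕ) (_ : Fact t.Prime) (P : Sylow t C), P.Normal :=
    ((Group.isNilpotent_of_finite_tfae (G := C)).out 0 3).1 hn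
  have hT' : IsPGroup p (T.subgroupOf C) := hT.comap_of_injective C.subtype C.subtype_injective
  obtain ⟨P, hP⟩ := hT'.exists_le_sylow
  have hPn := hsyl p ⟨hp⟩ P
  have hPc : (P : Subgroup C).Characteristic := Sylow.characteristic_of_normal P hPn
  have h1 : ((P : Subgroup C).map C.subtype).Normal := inferInstance
  have h2 := hO _ h1 ((map_subtype_le _).trans inf_le_right) (P.isPGroup'.map _)
  have h3 : (P : Subgroup C) = ⊥ := (Subgroup.map_eq_bot_iff_of_injective _ C.subtype_injective).1 h2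
  rw [eq_bot_iff]
  intro a ha
  have h4 : (⟨a, hTC ha⟩ : C) ∈ (P : Subgroup C) := hP (mem_subgroupOf.2 ha)
  rw [h3, mem_bot] at h4
  exact mem_bot.2 (congrArg Subtype.val h4)

/-- **Case B**: the kernel modulo the elementary abelian `r`-group `M` is a nontrivial `p`-group. -/
theorem caseB {p : ℕ} {Ord : ℕ → Prop} {Y : Type v} [Group Y] [Finite Y] {S : Subgroup Y} (D : Dat p Ord S)
    {G : Type u} [Group G] [Finite G] (hG : ∀ x : G, Ord (orderOf x)) (π : G →* Y) (hπ : Function.Surjective π)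
    {M : Subgroup G} (hMn : M.Normal) {r : ℕ} (hr : r.Prime) (hrp : r ≠ p) (hMc : ∀ a ∈ M, ∀ b ∈ M, a * b = b * a)
    (hMr : ∀ a ∈ M, a ^ r = 1) (hMk : M ≤ π.ker) (hk : ¬ π.ker ≤ M)
    (hO : ∀ P : Subgroup G, P.Normal → P ≤ π.ker → IsPGroup p P → P = ⊥)
    (hq : IsPGroup p (QuotientGroup.lift M π hMk).ker) : False := by
  have hp := D.prime
  have := Fact.mk hp
  set ρ : G ⧸ M →* Y := QuotientGroup.lift M π hMk with hρ
  have hρs : Function.Surjective ρ := by
    intro y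
    obtain ⟨x, hx⟩ := hπ y
    exact ⟨(x : G ⧸ M), hx⟩
  have hρ1 : ρ.ker ≠ ⊥ := by
    intro hbot
    apply hk
    intro x hx
    have h1 : (x : G ⧸ M) ∈ ρ.ker := hx
    rw [hbot, mem_bot, QuotientGroup.eq_one_iff] at h1
    exact h1
  obtain ⟨E, hEn, hEk, hE1, hEp, hEc⟩ := exists_central hp ρ.ker inferInstance hq hρ1
  -- orders
  have hG' : ∀ x : G ⧸ M, Ord (orderOf x) := by
    intro x
    obtain ⟨g, hg⟩ := exists_orderOf (QuotientGroup.mk' M) (QuotientGroup.mk'_surjective M) x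
    exact hg ▸ hG g
  have hSn := D.normal
  rcases le_or_inf D.normal D.simple ((inferInstance : (centralizer (E : Set (G ⧸ M))).Normal).map ρ hρs) with h | h
  · obtain ⟨s, hs, hsS, hsl, -, hno⟩ := D.dvd p hp
    obtain ⟨g, hg⟩ := exists_of_triv ρ hp hE1 hEp h hs hsl hsS
    exact hno (hg ▸ hG' g)
  · obtain ⟨s, hs, hsS, hsr, hsp, hno⟩ := D.dvd r hr
    have := Fact.mk hs
    obtain ⟨⟨z, hzS⟩, hz⟩ := exists_prime_orderOf_dvd_card' s hsS
    rw [Subgroup.orderOf_mk] at hz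
    obtain ⟨y, hy⟩ := hρs z
    -- a lift of order `s`
    have hys : y ^ s ∈ ρ.ker := by
      rw [MonoidHom.mem_ker, map_pow, hy, ← hz, pow_orderOf_eq_one]
    obtain ⟨k, hk⟩ := hq ⟨_, hys⟩
    have hk' : (y ^ s) ^ p ^ k = 1 := congrArg Subtype.val hk
    set w : G ⧸ M := y ^ p ^ k with hw
    have hws : w ^ s = 1 := by
      rw [hw, ← pow_mul, mul_comm, pow_mul, hk']
    have hρw : ρ w = z ^ p ^ k := by rw [hw, map_pow, hy]
    have hcop : Nat.Coprime (p ^ k) s := Nat.Coprime.pow_left k ((Nat.coprime_primes hp hs).2 (Ne.symm hsp))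
    have hρw1 : ρ w ≠ 1 := by
      rw [hρw]
      intro h1
      have h2 := orderOf_dvd_of_pow_eq_one h1
      rw [hz] at h2
      exact hs.one_lt.ne' (Nat.dvd_one.1 (hcop ▸ Nat.dvd_gcd h2 dvd_rfl))
    have hw1 : w ≠ 1 := by
      intro h1
      apply hρw1
      rw [h1, map_one]
    have hwo : orderOf w = s := orderOf_eq_of_pow hs hws hw1
    -- `w` acts nontrivially on `E`
    have hwE : ∃ a ∈ E, w * a ≠ a * w := by
      by_contra hcon
      push Not at hcon
      apply hρw1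
      have h1 : ρ w ∈ (centralizer (E : Set (G ⧸ M))).map ρ ⊓ S := by
        refine ⟨mem_map_of_mem ρ ?_, ?_⟩
        · rw [mem_centralizer_iff]
          intro a ha
          exact (hcon a ha).symm
        · rw [hρw]
          exact S.pow_mem hzS _
      rw [h, mem_bot] at h1
      exact h1
    obtain ⟨Q, hQE, hQ1, hwQ, hfree⟩ := exists_frob hp hs hsp E (fun a ha b hb => hEc a ha b (hEk hb)) hEp hwo hwE
    have hQp : IsPGroup p Q := hq.to_le (hQE.trans hEk)
    obtain ⟨T, d, hTp, hTQ, hdT, hdc⟩ := Cfsg.Agent.H413.FrobLift.exists_lift (QuotientGroup.mk' M)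
      (QuotientGroup.mk'_surjective M) hp Q hQp hwQ
    obtain ⟨g, hg⟩ := exists_order' M T hr hMc hMr (c := d) (n := s) (by
        obtain ⟨k, hk⟩ := IsPGroup.iff_card.1 hTp
        rw [hk]
        intro h1
        exact hrp ((Nat.prime_dvd_prime_iff_eq hr hp).1 (hr.dvd_of_dvd_pow h1))) hdT hs.pos (by
        rw [← QuotientGroup.eq_one_iff, QuotientGroup.mk_pow]
        have h1 : (d : G ⧸ M) = w := hdc
        rw [h1, hws]) (by
        have h1 := orderOf_map_dvd (QuotientGroup.mk' M) d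
        rwa [hdc, hwo] at h1) (by
        intro j h0 hj a ha hac
        have h1 : (QuotientGroup.mk' M) a = 1 := by
          refine hfree j h0 hj _ (hTQ ▸ mem_map_of_mem _ ha) ?_
          rw [← hdc, ← map_pow, ← map_mul, hac, map_mul]
        have h2 : a ∈ M := (QuotientGroup.eq_one_iff a).1 h1
        exact eq_one_of_pgroup hp hr hrp hTp ha (hMr a h2)) (by
        by_contra hcon
        push Not at hcon
        have hTbot : T = ⊥ := by
          refine eq_bot_of_cent hp (K := π.ker) (M := M) inferInstance hMn hMk hMc hO ?_ hTp ?_ hcon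
          · intro x hx
            have hx' : (x : G ⧸ M) ∈ ρ.ker := hx
            obtain ⟨k, hk⟩ := hq ⟨(x : G ⧸ M), hx'⟩
            have hk' : (x : G ⧸ M) ^ p ^ k = 1 := congrArg Subtype.val hk
            exact ⟨k, by rw [← QuotientGroup.eq_one_iff, QuotientGroup.mk_pow, hk']⟩
          · intro a ha
            have h1 : (QuotientGroup.mk' M) a ∈ Q := hTQ ▸ mem_map_of_mem _ ha
            exact hEk (hQE h1)
        apply hQ1
        rw [← hTQ, hTbot, Subgroup.map_bot])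
    exact hno (hg ▸ hG g)

/-- **The kernel is a `p`-group.** -/
theorem Dat.ker {p : ℕ} {Ord : ℕ → Prop} {Y : Type v} [Group Y] [Finite Y] {S : Subgroup Y} (D : Dat p Ord S)
    (n : ℕ) : ∀ {G : Type u} [Group G] [Finite G], Nat.card G = n → (∀ x : G, Ord (orderOf x)) → ∀ π : G →* Y,
      Function.Surjective π → Group.IsSolvable π.ker → IsPGroup p π.ker := by
  induction n using Nat.strong_induction_on with
  | _ n ih =>
    intro G _ _ hcard hG π hπ hsol
    have hp := D.prime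
    have := Fact.mk hp
    -- the induction step
    have step : ∀ P : Subgroup G, ∀ (_ : P.Normal) (hPk : P ≤ π.ker), P ≠ ⊥ →
        IsPGroup p (QuotientGroup.lift P π hPk).ker := by
      intro P hPn hPk hP1
      refine ih (Nat.card (G ⧸ P)) ?_ rfl ?_ _ ?_ ?_
      · rw [← hcard, Subgroup.card_eq_card_quotient_mul_card_subgroup P]
        have h1 := (Subgroup.one_lt_card_iff_ne_bot P).2 hP1
        have h2 : 0 < Nat.card (G ⧸ P) := Nat.card_pos
        nlinarith
      · intro x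
        obtain ⟨g, hg⟩ := exists_orderOf (QuotientGroup.mk' P) (QuotientGroup.mk'_surjective P) x
        exact hg ▸ hG g
      · intro y
        obtain ⟨x, hx⟩ := hπ y
        exact ⟨(x : G ⧸ P), hx⟩
      · have h1 : (QuotientGroup.lift P π hPk).ker = π.ker.map (QuotientGroup.mk' P) := by
          ext y
          obtain ⟨x, rfl⟩ := QuotientGroup.mk_surjective y
          constructor
          · intro hx
            exact ⟨x, hx, rfl⟩
          · rintro ⟨z, hz, hzx⟩
            rw [← hzx]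
            exact hz
        rw [h1]
        exact Group.isSolvable_of_surjective ((QuotientGroup.mk' P).subgroupMap_surjective π.ker)
    by_cases hkb : π.ker = ⊥
    · rw [hkb]
      exact IsPGroup.of_bot
    obtain ⟨r, hr, M, hMn, hMk, hM1, hMc, hMr⟩ := exists_elem π.ker hsol hkb
    have hq := step M hMn hMk hM1
    by_cases hrp : r = p
    · subst hrp
      refine isPGroup_of_lift π M hMk ?_ hq
      intro a
      exact ⟨1, Subtype.ext (by rw [pow_one]; exact hMr a a.2)⟩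
    by_cases hO : ∀ P : Subgroup G, P.Normal → P ≤ π.ker → IsPGroup p P → P = ⊥
    · exfalso
      by_cases hkM : π.ker ≤ M
      · exact caseA D hG π hπ hMn hr hrp hMc hMr hM1 hkM
      · exact caseB D hG π hπ hMn hr hrp hMc hMr hMk hkM hO hq
    · push Not at hO
      obtain ⟨P, hPn, hPk, hPp, hP1⟩ := hO
      exact isPGroup_of_lift π P hPk hPp (step P hPn hPk hP1)

end Cfsg.Agent.H35.KerP
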