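import Mathlib
import Cfsg.Agent.H35.KerP
import Cfsg.Agent.H35.BorelTwo
import Cfsg.Agent.H214.S69.Defs
import Cfsg.Agent.H202.T.Num

/-!
# S3469, T4a: the solvable kernel is a 7-group
-/

set_option autoImplicit false

open Cfsg Cfsg.Agent.H903.SylSemi Cfsg.Agent.H214.S69 Cfsg.Agent

namespace Cfsg.Agent.H35.KerSeven

open Subgroup

universe u v

theorem not_half {q r : ℕ} (hq : ∃ f, 1 ≤ f ∧ q = 7 ^ f) (hr : 2 ≤ r) :
    ¬ H202.T.InL 7 q (r * ((q ^ 4 - 1) / 2)) := by
  obtain ⟨f, hf, hqf⟩ := hq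
  have hqo : Odd q := by rw [hqf]; exact (by decide : Odd 7).pow
  have h8 := H202.T.mm_mod hqo
  have hhalf := H202.T.half_eq hqo
  have hmm := H202.T.two_mm hqo
  have hq7 : 7 ≤ q := by
    rw [hqf]
    exact Nat.le_self_pow (by omega) 7
  have hq4 : 7 ^ 4 ≤ q ^ 4 := Nat.pow_le_pow_left hq7 4
  have hH : 2 * ((q ^ 4 - 1) / 2) = q ^ 4 - 1 := by omega
  have hN : q ^ 4 - 1 ≤ r * ((q ^ 4 - 1) / 2) := by
    calc q ^ 4 - 1 = 2 * ((q ^ 4 - 1) / 2) := hH.symm
      _ ≤ _ := Nat.mul_le_mul_right _ hr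
  rcases Nat.lt_or_ge f 2 with hf2 | hf2
  · have hf1 : f = 1 := by omega
    have hq : q = 7 := by rw [hqf, hf1, pow_one]
    subst hq
    have key : ∀ M : ℕ, 0 < M → M ≠ 2408 → M < 2400 ∨ False → ¬ r * ((7 ^ 4 - 1) / 2) ∣ M := by
      intro M h0 _ h1 h2
      have h3 := Nat.le_of_dvd h0 h2
      rcases h1 with h1 | h1
      · norm_num at hN
        norm_num at h3
        omega
      · exact h1
    have key2 : ¬ r * ((7 ^ 4 - 1) / 2) ∣ 7 * (7 ^ 3 + 1) := by
      intro h
      have h1 : 1200 ∣ 7 * (7 ^ 3 + 1) := (Dvd.intro_left r (by norm_num)).trans h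
      norm_num at h1
    intro h
    rcases h with h | h | h | h | h | h | h | h | h | ⟨h', -⟩ | ⟨h', -⟩ | ⟨-, h⟩
    · exact key _ (by norm_num [H202.T.mm]) (by norm_num [H202.T.mm]) (Or.inl (by norm_num [H202.T.mm])) h
    · exact key _ (by norm_num) (by norm_num) (Or.inl (by norm_num)) h
    · exact key _ (by norm_num) (by norm_num) (Or.inl (by norm_num)) h
    · exact key _ (by norm_num) (by norm_num) (Or.inl (by norm_num)) h
    · exact key2 h
    · exact key _ (by norm_num) (by norm_num) (Or.inl (by norm_num)) h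
    · exact key _ (by norm_num) (by norm_num) (Or.inl (by norm_num)) h
    · exact key _ (by norm_num) (by norm_num) (Or.inl (by norm_num)) h
    · exact key _ (by norm_num) (by norm_num) (Or.inl (by norm_num)) h
    · omega
    · omega
    · exact key _ (by norm_num) (by norm_num) (Or.inl (by norm_num)) h
  · have hq49 : 49 ≤ q := by
      rw [hqf]
      calc 49 = 7 ^ 2 := by norm_num
        _ ≤ 7 ^ f := Nat.pow_le_pow_right (by norm_num) hf2
    have e4 : q ^ 4 = q ^ 3 * q := by ring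
    have e3 : q ^ 3 = q ^ 2 * q := by ring
    have b2 : 49 * 49 ≤ q ^ 2 := by
      rw [pow_two]; exact Nat.mul_le_mul hq49 hq49
    have b3 : q ^ 2 * 49 ≤ q ^ 3 := by rw [e3]; exact Nat.mul_le_mul_left _ hq49
    have b4 : q ^ 3 * 49 ≤ q ^ 4 := by rw [e4]; exact Nat.mul_le_mul_left _ hq49
    have bq : q * 49 ≤ q ^ 2 := by rw [pow_two]; exact Nat.mul_le_mul_left _ hq49
    have key : ∀ M : ℕ, 0 < M → M < q ^ 4 - 1 → ¬ r * ((q ^ 4 - 1) / 2) ∣ M := by
      intro M h0 h1 h2
      have h3 := Nat.le_of_dvd h0 h2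
      omega
    have p1 : 0 < (q - 1) / 2 := by omega
    have p2 : 0 < (q + 1) / 2 := by omega
    intro h
    rcases h with h | h | h | h | h | h | h | h | h | ⟨h', -⟩ | ⟨h', -⟩ | ⟨-, h⟩
    · exact key _ (by unfold H202.T.mm; omega) (by unfold H202.T.mm; omega) h
    · exact key _ (by omega) (by omega) h
    · refine key _ (Nat.mul_pos (by omega) p1) ?_ h
      have h1 : 2 * ((q ^ 3 + 1) * ((q - 1) / 2)) ≤ (q ^ 3 + 1) * q := by
        calc 2 * ((q ^ 3 + 1) * ((q - 1) / 2)) = (q ^ 3 + 1) * (2 * ((q - 1) / 2)) := by ring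
          _ ≤ (q ^ 3 + 1) * q := Nat.mul_le_mul_left _ (by omega)
      have h2 : (q ^ 3 + 1) * q = q ^ 4 + q := by ring
      omega
    · refine key _ (Nat.mul_pos (by omega) p2) ?_ h
      have h1 : 2 * ((q ^ 3 - 1) * ((q + 1) / 2)) ≤ q ^ 3 * (q + 1) := by
        calc 2 * ((q ^ 3 - 1) * ((q + 1) / 2)) = (q ^ 3 - 1) * (2 * ((q + 1) / 2)) := by ring
          _ ≤ q ^ 3 * (q + 1) := Nat.mul_le_mul (by omega) (by omega)
      have h2 : q ^ 3 * (q + 1) = q ^ 4 + q ^ 3 := by ring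
      omega
    · exact key _ (by omega) (by omega) h
    · exact key _ (by omega) (by omega) h
    · refine key _ (Nat.mul_pos (by norm_num) (Nat.mul_pos (by omega) p2)) ?_ h
      have h1 : (q ^ 2 + 1) * ((q + 1) / 2) ≤ (q ^ 2 + 1) * q := Nat.mul_le_mul_left _ (by omega)
      have h2 : (q ^ 2 + 1) * q = q ^ 3 + q := by ring
      omega
    · refine key _ (Nat.mul_pos (by norm_num) (Nat.mul_pos (by omega) p1)) ?_ h
      have h1 : (q ^ 2 + 1) * ((q - 1) / 2) ≤ (q ^ 2 + 1) * q := Nat.mul_le_mul_left _ (by omega)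
      have h2 : (q ^ 2 + 1) * q = q ^ 3 + q := by ring
      omega
    · exact key _ (by omega) (by omega) h
    · omega
    · omega
    · exact key _ (by omega) (by omega) h

/-- the data for `KerP` -/
theorem dat {q : ℕ} {Y : Type v} [Group Y] [Finite Y] (hq : ∃ f, 1 ≤ f ∧ q = 7 ^ f)
    (S : Subgroup Y) (hSn : S.Normal) (hS : IsSimpleGroup ↥S) (hmm : ∃ x : ↥S, orderOf x = H202.T.mm q)
    {E : Type*} [Field E] [Fintype E] [CharP E 7] (hE : Fintype.card E = q ^ 4)
    (f : Matrix.ProjectiveSpecialLinearGroup (Fin 2) E →* ↥S) (hf : Function.Injective f) :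
    KerP.Dat 7 (H202.T.InL 7 q) S := by
  have h7 : Nat.Prime 7 := by norm_num
  have hqo : Odd q := by
    obtain ⟨k, -, rfl⟩ := hq
    exact (by decide : Odd 7).pow
  have h7q : 7 ∣ q := by
    obtain ⟨k, hk, rfl⟩ := hq
    exact dvd_pow_self 7 (by omega)
  have h3q : 3 ≤ q := by
    have := Nat.le_of_dvd hqo.pos h7q
    omega
  obtain ⟨Q, c, hQp, hQ1, hcQ, hco, hfree⟩ := BorelTwo.borel (E := E) (p := 7) h7 (by norm_num)
  rw [hE] at hco
  set g : Matrix.ProjectiveSpecialLinearGroup (Fin 2) E →* Y := S.subtype.comp f with hg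
  have hgi : Function.Injective g := S.subtype_injective.comp hf
  have hgo : orderOf (g c) = (q ^ 4 - 1) / 2 := by rw [orderOf_injective g hgi, hco]
  have h2S : 2 ∣ Nat.card S := by
    have h1 : orderOf (f c) = (q ^ 4 - 1) / 2 := by rw [orderOf_injective f hf, hco]
    have h2 : orderOf (f c) ∣ Nat.card S := orderOf_dvd_natCard _
    refine dvd_trans ?_ h2
    rw [h1, H202.T.half_eq hqo]
    have := H202.T.mm_mod hqo
    omega
  have hmS : H202.T.mm q ∣ Nat.card S := by
    obtain ⟨x, hx⟩ := hmm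
    rw [← hx]
    exact orderOf_dvd_natCard x
  refine ⟨h7, hSn, hS, ?_, ?_⟩
  · intro l hl
    by_cases hlm : l ∣ H202.T.mm q
    · refine ⟨2, Nat.prime_two, h2S, (H202.T.ne_two_of_dvd hqo hlm).symm, by norm_num, ?_⟩
      intro h
      have h1 := H202.T.InL.iso h7 (by norm_num) h7q hqo h hl hlm (Dvd.intro_left 2 rfl)
      have h2 : 2 ∣ H202.T.mm q := (Dvd.intro l rfl).trans h1
      exact H202.T.ne_two_of_dvd hqo h2 rfl
    · obtain ⟨s, hs, hsm⟩ := H202.T.exists_prime_mm h3q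
      refine ⟨s, hs, hsm.trans hmS, ?_, ?_, ?_⟩
      · rintro rfl
        exact hlm hsm
      · rintro rfl
        exact H202.T.not_dvd_q hqo hs hsm h7q
      · intro h
        have h1 := H202.T.InL.iso h7 (by norm_num) h7q hqo h hs hsm (Dvd.intro l rfl)
        exact hlm ((Dvd.intro_left s rfl).trans h1)
  · intro r hr hr7
    refine ⟨Q.map g, g c, ?_, hQp.map g, ?_, ?_, ?_, ?_⟩
    · rintro _ ⟨x, -, rfl⟩
      exact (f x).2
    · intro h
      exact hQ1 ((Subgroup.map_eq_bot_iff_of_injective _ hgi).1 h)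
    · apply mem_normalizer_fintype
      rintro _ ⟨x, hx, rfl⟩
      exact ⟨c * x * c⁻¹, (mem_normalizer_iff.1 hcQ x).1 hx, by rw [map_mul, map_mul, map_inv]⟩
    · rintro j h0 hj _ ⟨x, hx, rfl⟩ hcom
      rw [orderOf_injective g hgi] at hj
      have h1 : x * c ^ j = c ^ j * x := by
        apply hgi
        rw [map_mul, map_mul, map_pow]
        exact hcom
      rw [hfree j h0 hj x hx h1, map_one]
    · rw [hgo, mul_comm]
      exact not_half hq hr.two_le

/-- **T4a.** -/
theorem kernel_seven {q : ℕ} {G : Type u} [Group G] [Finite G] (hs : Up8 q G) (K : Subgroup G) [K.Normal]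
    (hK : Group.IsSolvable ↥K) (S : Subgroup (G ⧸ K)) [S.Normal] (hS : IsSimpleGroup ↥S)
    (hmm : ∃ x : ↥S, orderOf x = H202.T.mm q)
    {E : Type} [Field E] [Fintype E] [CharP E 7] (hE : Fintype.card E = q ^ 4)
    (f : Matrix.ProjectiveSpecialLinearGroup (Fin 2) E →* ↥S) (hf : Function.Injective f) : IsPGroup 7 ↥K := by
  have D := dat hs.pow S inferInstance hS hmm hE f hf
  have hker : (QuotientGroup.mk' K).ker = K := QuotientGroup.ker_mk' K
  have h1 : Group.IsSolvable (QuotientGroup.mk' K).ker := by rw [hker]; exact hK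
  have h2 := D.ker (Nat.card G) rfl hs.up (QuotientGroup.mk' K) (QuotientGroup.mk'_surjective K) h1
  rwa [hker] at h2

end Cfsg.Agent.H35.KerSeven
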