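import Cfsg.Agent.H368.SSz
import Cfsg.Agent.S4184

/-!
# Thompson's conjecture for the Suzuki groups (part of S3582)
-/

set_option autoImplicit false

open Subgroup Cfsg Cfsg.Agent

namespace Cfsg.Agent.H35.TC

universe u v

section cs

variable {L : Type u} [Group L] {G : Type v} [Group G]

theorem centralizer_one_top (G : Type*) [Group G] : (centralizer ({(1 : G)} : Set G)) = ⊤ := by
  rw [eq_top_iff]
  intro x _
  rw [mem_centralizer_singleton_iff]
  simp

theorem mem_center_of_index {g : G} (h : (centralizer ({g} : Set G)).index = 1) : g ∈ center G := by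
  rw [index_eq_one] at h
  rw [mem_center_iff]
  intro x
  have : x ∈ centralizer ({g} : Set G) := h ▸ mem_top x
  exact mem_centralizer_singleton_iff.1 this

/-- every class size of `G` comes from `L` -/
theorem exists_cs (hZ : center G = ⊥)
    (h : Set.range (fun g : G => (centralizer ({g} : Set G)).index) =
      Set.range (fun g : L => (centralizer ({g} : Set L)).index)) {g : G} (hg : g ≠ 1) :
    ∃ l : L, l ≠ 1 ∧ (centralizer ({l} : Set L)).index = (centralizer ({g} : Set G)).index := by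
  have h1 : (centralizer ({g} : Set G)).index ∈ Set.range (fun g : L => (centralizer ({g} : Set L)).index) := by
    rw [← h]; exact ⟨g, rfl⟩
  obtain ⟨l, hl⟩ := h1
  refine ⟨l, ?_, hl⟩
  rintro rfl
  apply hg
  have h3 : (centralizer ({g} : Set G)).index = 1 := by
    rw [← hl]
    show (centralizer ({(1 : L)} : Set L)).index = 1
    rw [centralizer_one_top, index_top]
  have h4 := mem_center_of_index h3
  rwa [hZ, mem_bot] at h4

variable [Finite L] [Finite G]

theorem card_cent (hc : Nat.card G = Nat.card L) {g : G} {l : L}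
    (h : (centralizer ({l} : Set L)).index = (centralizer ({g} : Set G)).index) :
    Nat.card (centralizer ({g} : Set G)) = Nat.card (centralizer ({l} : Set L)) := by
  have h1 := (centralizer ({g} : Set G)).card_mul_index
  have h2 := (centralizer ({l} : Set L)).card_mul_index
  rw [h, ← hc, ← h1] at h2
  exact (Nat.eq_of_mul_eq_mul_right (Nat.pos_of_ne_zero index_ne_zero_of_finite) h2).symm

end cs

end Cfsg.Agent.H35.TC

namespace Cfsg.Agent.H35.TCSz

universe u v

open Cfsg.Agent.H368.SNum Cfsg.Agent.H368.SEnd Cfsg.Agent.H368.SRed Cfsg.Agent.H366.Coclique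
open Cfsg.Agent.H368.SSz Cfsg.Agent.H35.TC

/-- Suzuki groups: recognition by the order and `2` isolated (after H368/SSz). -/
theorem suzuki {G M : Type*} [Group G] [Finite G] [Group M] [Finite M] (hM : Lie.IsoSuzuki M)
    (hna : ∀ r : ℕ, r.Prime → r ≠ 2 → NA G 2 r) (hc : Nat.card G = Nat.card M) :
    Nonempty (G ≃* M) := by
  obtain ⟨m, hm, -, hcM, h2M⟩ := card_sz hM
  set q := 2 ^ (2 * m + 1) with hq
  have hq8 : 8 ≤ q := by
    calc 8 = 2 ^ 3 := rfl
      _ ≤ 2 ^ (2 * m + 1) := Nat.pow_le_pow_right (by norm_num) (by omega)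
  obtain ⟨r, hr, hprim, hr1, hr2⟩ := Lib.Zsigmondy.exists_primitive (a := 2) (n := 4 * (2 * m + 1))
    le_rfl (by omega) (by omega) (by omega)
  have hprim' : ∀ k, r ∣ 2 ^ k - 1 → 4 * (2 * m + 1) ∣ k := fun k => (hprim k).1
  have hrne2 : r ≠ 2 := by rintro rfl; exact hr2 dvd_rfl
  -- `r` divides `q ^ 2 + 1`
  have hrq : ¬ r ∣ 2 ^ (2 * (2 * m + 1)) * (2 ^ (2 * m + 1) - 1) := by
    rw [Nat.Prime.dvd_mul hr]
    rintro (h | h)
    · exact hr2 (hr.dvd_of_dvd_pow h)
    · exact not_dvd_sub hprim' (by omega) (by omega) h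
  have hrdvd : r ∣ q ^ 2 + 1 := by
    have h1 : r ∣ 2 ^ (4 * (2 * m + 1)) - 1 := (hprim _).2 dvd_rfl
    have h2 : 2 ^ (4 * (2 * m + 1)) - 1 = (2 ^ (2 * (2 * m + 1)) - 1) * (q ^ 2 + 1) := by
      rw [show 4 * (2 * m + 1) = (2 * (2 * m + 1)) * 2 by ring, pow_mul, sub_mul, hq, ← pow_mul,
        mul_comm (2 * m + 1) 2]
    rw [h2] at h1
    exact ((Nat.Prime.dvd_mul hr).1 h1).resolve_left (not_dvd_sub hprim' (by omega) (by omega))
  have hfac : r ^ (Nat.card M).factorization r ∣ q ^ 2 + 1 :=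
    part_dvd hr (by rw [hcM]; ring) hrq
  have hN : Num {2} r (Nat.card M).factorization :=
    { prime := by rintro p rfl; exact Nat.prime_two
      rprime := hr
      notMem := by simpa using hrne2
      pos := by
        rw [← hr.dvd_iff_one_le_factorization Nat.card_pos.ne', hcM]
        exact dvd_mul_of_dvd_right (dvd_mul_of_dvd_right hrdvd _) _
      big := by
        refine ⟨2, rfl, ?_⟩
        rw [h2M, mul_comm 2, pow_mul, ← hq]
        have h1 := Nat.le_of_dvd (by positivity) hfac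
        rcases Nat.lt_or_ge (r ^ (Nat.card M).factorization r) (q ^ 2 + 1) with h | h
        · omega
        · exfalso
          have h3 : 5 ∣ r ^ (Nat.card M).factorization r := by
            rw [le_antisymm h1 h]
            exact five_dvd m
          have h5 := (Nat.prime_dvd_prime_iff_eq Nat.prime_five hr).1 (Nat.prime_five.dvd_of_dvd_pow h3)
          rw [← h5] at hr1
          have := Nat.le_of_dvd (by norm_num) hr1
          omega }
  have hH : Hyp {2} r (Nat.card M).factorization G :=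
    { pow := fun l _ => by rw [hc]
      na := by
        rintro p rfl
        exact hna r hr hrne2
      sq := by
        rintro p rfl k hk1 hk2 hk3
        exfalso
        have h1 := Nat.le_of_dvd (by omega) (hprim' k hk3)
        omega }
  obtain ⟨R, hRn, hRd, hHR, S, hSn, hSs, hSna, hSc⟩ := hH.exists_simple hN rfl (by omega)
  have hSdvd : Nat.card S ∣ Nat.card M := by
    rw [← hc]
    exact (Subgroup.card_subgroup_dvd_card S).trans (Subgroup.card_quotient_dvd_card R)
  have h3 : ¬ 3 ∣ Nat.card S := by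
    intro h
    have h1 := h.trans hSdvd
    rw [hcM, Nat.Prime.dvd_mul Nat.prime_three, Nat.Prime.dvd_mul Nat.prime_three] at h1
    have h2 := two_pow_mod m
    rw [← hq] at h2
    rcases h1 with h1 | h1 | h1
    · have := Nat.prime_three.dvd_of_dvd_pow h1
      omega
    · omega
    · have h4 : q ^ 2 % 3 = 1 := by rw [Nat.pow_mod, h2]
      omega
  have hSz : Lie.IsoSuzuki S := by
    refine ThreePrime.Main.isoSuzuki_aux _ S rfl ?_ h3
    by_contra hcon
    push Not at hcon
    exact hSna ⟨⟨hcon⟩⟩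
  obtain ⟨Q, hQ⟩ := OddCyclic.CaseESz.szK (K := S) hSz
  have hidx : ¬ 2 ∣ S.index := by
    intro h2
    have : Fact (Nat.Prime 2) := ⟨Nat.prime_two⟩
    obtain ⟨x, hx⟩ := exists_prime_orderOf_dvd_card' (G := (G ⧸ R) ⧸ S) 2 (by
      rwa [← Subgroup.index_eq_card])
    obtain ⟨g, rfl⟩ := QuotientGroup.mk_surjective x
    -- the 2-part of `g`
    obtain ⟨k, l, hl, hkl⟩ := Nat.exists_eq_two_pow_mul_odd (n := orderOf g) (orderOf_pos g).ne'
    have h4 : (g ^ l) ^ 2 ^ k = 1 := by
      rw [← pow_mul, mul_comm, ← hkl, pow_orderOf_eq_one]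
    have h5 := hQ.inner (g ^ l) (by rw [normalizer_eq_top]; trivial) ⟨k, h4⟩
    rw [hSc, sup_bot_eq] at h5
    have h6 : ((g : (G ⧸ R) ⧸ S)) ^ l = 1 := by
      rw [← QuotientGroup.mk_pow, QuotientGroup.eq_one_iff]
      exact h5
    have h7 := orderOf_dvd_of_pow_eq_one h6
    rw [hx] at h7
    exact (Nat.not_even_iff_odd.2 hl) (even_iff_two_dvd.2 h7)
  have h2S : (Nat.card S).factorization 2 = (Nat.card M).factorization 2 := by
    rw [← hHR.pow 2 (Or.inl rfl), ← Subgroup.card_mul_index S,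
      Nat.factorization_mul Nat.card_pos.ne' S.index_ne_zero_of_finite]
    simp [Nat.factorization_eq_zero_of_not_dvd hidx]
  obtain ⟨h7, ⟨e⟩⟩ := sz_iso hM hSz h2S
  obtain ⟨f⟩ := equiv_of_card R S (h7.trans hc.symm)
  exact ⟨f.trans e⟩


/-- a prime-order element commuting with elements of the orders dividing the order of the centraliser -/
theorem exists_prime_pow {L : Type*} [Group L] [Finite L] {l : L} (hl : l ≠ 1) :
    ∃ p : ℕ, p.Prime ∧ ∃ k : ℕ, orderOf (l ^ k) = p := by
  obtain ⟨p, hp, hpd⟩ := Nat.exists_prime_and_dvd (n := orderOf l) (fun h1 => hl (orderOf_eq_one_iff.1 h1))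
  exact ⟨p, hp, orderOf l / p, orderOf_pow_orderOf_div (orderOf_pos l).ne' hpd⟩

/-- if `2` is isolated in `L` then so it is in `G` -/
theorem na_two {L : Type u} [Group L] [Finite L] {G : Type v} [Group G] [Finite G]
    (hL : ∀ r : ℕ, r.Prime → r ≠ 2 → NA L 2 r)
    (hC : ∀ g : G, g ≠ 1 → ∃ l : L, l ≠ 1 ∧ Nat.card (centralizer ({g} : Set G)) = Nat.card (centralizer ({l} : Set L)))
    (r : ℕ) (hr : r.Prime) (hr2 : r ≠ 2) : NA G 2 r := by
  intro g hg
  have hg1 : g ≠ 1 := by
    rintro rfl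
    rw [orderOf_one] at hg
    have := hr.two_le
    omega
  obtain ⟨l, hl1, hl⟩ := hC g hg1
  have h1 : 2 * r ∣ Nat.card (centralizer ({l} : Set L)) := by
    rw [← hl, ← hg]
    exact Subgroup.orderOf_dvd_natCard _ (mem_centralizer_singleton_iff.2 rfl)
  obtain ⟨p, hp, k, hk⟩ := exists_prime_pow hl1
  have key : ∀ s : ℕ, s.Prime → s ∣ 2 * r → ∃ x : L, orderOf x = s ∧ Commute (l ^ k) x := by
    intro s hs hsd
    have := Fact.mk hs
    obtain ⟨⟨x, hx⟩, hxs⟩ := exists_prime_orderOf_dvd_card' s (hsd.trans h1)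
    rw [Subgroup.orderOf_mk] at hxs
    have h2 : Commute l x := (mem_centralizer_singleton_iff.1 hx).symm
    exact ⟨x, hxs, h2.pow_left k⟩
  by_cases hp2 : p = 2
  · subst hp2
    obtain ⟨x, hx, hc⟩ := key r hr (Dvd.intro_left _ rfl)
    exact (hL r hr hr2).not_commute Nat.prime_two hr (Ne.symm hr2) hk hx hc
  · obtain ⟨x, hx, hc⟩ := key 2 Nat.prime_two (Dvd.intro _ rfl)
    exact (hL p hp hp2).not_commute Nat.prime_two hp (Ne.symm hp2) hx hk hc.symm

/-- **Thompson's conjecture for `Sz(q)`.** -/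
theorem sz {L : Type u} [Group L] (hL : Cfsg.Lie.IsoSuzuki L) {G : Type v} [Group G] [Finite G]
    (hZ : Subgroup.center G = ⊥)
    (hcs : Set.range (fun g : G => (Subgroup.centralizer ({g} : Set G)).index) =
      Set.range (fun g : L => (Subgroup.centralizer ({g} : Set L)).index)) : Nonempty (G ≃* L) := by
  obtain ⟨m, hm, -, hcL, h2L⟩ := card_sz hL
  have hpos : 0 < Nat.card L := by
    rw [hcL]
    have h1 : 2 ^ 1 ≤ 2 ^ (2 * m + 1) := Nat.pow_le_pow_right (by norm_num) (by omega)
    have h2 : 0 < 2 ^ (2 * m + 1) - 1 := by omega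
    positivity
  have hfin : Finite L := Nat.finite_of_card_ne_zero hpos.ne'
  have hNA : ∀ r : ℕ, r.Prime → r ≠ 2 → NA L 2 r := fun r hr hr2 => Cfsg.Agent.H368.SFacts.na_suzuki hL hr hr2
  have hodd : ∃ r : ℕ, r.Prime ∧ r ≠ 2 ∧ r ∣ Nat.card L := by
    have h1 : 2 ^ 1 ≤ 2 ^ (2 * m) := Nat.pow_le_pow_right (by norm_num) (by omega)
    have h0 : 2 ^ (2 * m + 1) = 2 * 2 ^ (2 * m) := by ring
    obtain ⟨r, hr, hrd⟩ := Nat.exists_prime_and_dvd (n := 2 ^ (2 * m + 1) - 1) (by omega)
    refine ⟨r, hr, ?_, ?_⟩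
    · rintro rfl
      omega
    · rw [hcL]
      exact dvd_mul_of_dvd_right (hrd.mul_right _) _
  have h2dvd : 2 ∣ Nat.card L := by
    rw [hcL]
    exact Dvd.dvd.mul_right (dvd_pow_self 2 (by omega)) _
  -- the centre is trivial
  have hZL : center L = ⊥ := by
    rw [eq_bot_iff]
    intro z hz
    rw [mem_bot]
    by_contra hz1
    obtain ⟨p, hp, k, hk⟩ := exists_prime_pow hz1
    have hcz : ∀ x : L, Commute (z ^ k) x := fun x =>
      (show Commute z x from ((mem_center_iff.1 hz) x).symm).pow_left k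
    by_cases hp2 : p = 2
    · subst hp2
      obtain ⟨r, hr, hr2, hrd⟩ := hodd
      have := Fact.mk hr
      obtain ⟨x, hx⟩ := exists_prime_orderOf_dvd_card' (G := L) r hrd
      exact (hNA r hr hr2).not_commute Nat.prime_two hr (Ne.symm hr2) hk hx (hcz x)
    · have := Fact.mk Nat.prime_two
      obtain ⟨x, hx⟩ := exists_prime_orderOf_dvd_card' (G := L) 2 h2dvd
      exact (hNA p hp hp2).not_commute Nat.prime_two hp (Ne.symm hp2) hx hk (hcz x).symm
  have hcard : Nat.card G = Nat.card L := by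
    refine Cfsg.Agent.S4184.result hZ hZL hcs ⟨{2}, ⟨2, rfl, Nat.prime_two, h2dvd⟩, ?_, ?_⟩
    · obtain ⟨r, hr, hr2, hrd⟩ := hodd
      exact ⟨r, by simpa using hr2, hr, hrd⟩
    · rintro a rfl b hb - hbp - - ⟨x, hx⟩
      exact hNA b hbp (by simpa using hb) x hx
  refine suzuki hL (na_two hNA fun g hg => ?_) hcard
  obtain ⟨l, hl, h⟩ := exists_cs hZ hcs hg
  exact ⟨l, hl, card_cent hcard h⟩

end Cfsg.Agent.H35.TCSz
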