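import Cfsg.Agent.H362.ReeMain
import Cfsg.Agent.H368.SEnd
import Cfsg.Agent.H35.TCSz
import Cfsg.Agent.S1159
import Cfsg.Agent.S4184

/-!
# Thompson's conjecture for the small Ree groups (part of S3582)
-/

set_option autoImplicit false
set_option linter.unusedSectionVars false

namespace Cfsg.Agent.H35.TCRee

open Subgroup
open Cfsg
open Cfsg.Agent.H362 Cfsg.Agent.H362.ReeMain
open Cfsg.Agent.H362.ReeNum
open Cfsg.Agent.H362.NseArith (Typ)
open Cfsg.Agent.H362.IsoGroup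
open Cfsg.Agent.H418.Nse
open Cfsg.Agent.H35.TC

universe u v

/-- The end of the proof of H362/ReeMain. -/
theorem of_hyp {K : Type*} [Field K] [Fintype K] {m : ℕ} (hm : 1 ≤ m)
    (hK : Fintype.card K = 3 ^ (2 * m + 1)) {G : Type u} [Group G] [Finite G] {q s t : ℕ}
    (hq : q = 3 ^ (2 * m + 1)) (hs : s = 3 ^ (2 * m + 1) - 3 ^ (m + 1) + 1)
    (ht : t = 3 ^ (2 * m + 1) + 3 ^ (m + 1) + 1) (hyp : ReeGroup.Hyp G q s t) :
    Nonempty (G ≃* ↥(Cfsg.Lie.twistedG2 K (3 ^ m))) := by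
  classical
  obtain ⟨n8, nst, ns1, nlt, ncop, n2, n3, n703, n58, n27⟩ := nums hm hq hs ht
  have X := ReeVals.ctx hm
  have hoq := ReeVals.odd_q m
  rw [← hs, ← ht, ← hq] at X
  rw [← hq] at hoq
  have h27 : 27 ≤ q := by exact_mod_cast X.q27
  have hq1 : 1 ≤ q := by omega
  have hGi : (Nat.card G : ℤ) = vG (q : ℤ) := by
    rw [hyp.card]
    unfold vG
    push_cast [Nat.cast_sub hq1]
    ring
  obtain ⟨H, iH, fH, S, hSn, hSs, hSna, hS4, hS16, hH8, hHd, hHs, hHt, hinv, hiso⟩ := hyp.exists_simple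
  have hS2 : 2 ∣ Nat.card S := (by norm_num : 2 ∣ 4).trans hS4
  have hSH : Nat.card S ∣ Nat.card H := S.card_subgroup_dvd_card
  rcases ReeElim.classify hSna hS4 hS16 with h | ⟨F, iF, iF', hodd, ⟨e⟩⟩ | ⟨h8, h⟩ | ⟨F, iF, iF', m₀, hm₀, hF, ⟨e⟩⟩
  · -- small
    exfalso
    have h1 : Nat.card {x : S // orderOf x = 2} ≤ Nat.card S := Nat.card_le_card_of_injective _ Subtype.val_injective
    have h2 : 0 < Nat.card {x : S // orderOf x = 2} := by
      have : Fact (Nat.Prime 2) := ⟨Nat.prime_two⟩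
      obtain ⟨a, ha⟩ := exists_prime_orderOf_dvd_card' 2 hS2
      have : Nonempty {x : S // orderOf x = 2} := ⟨⟨a, ha⟩⟩
      exact Nat.card_pos
    have h3 := Nat.le_of_dvd h2 hinv
    omega
  · -- PSL(2, q₀)
    exfalso
    have hconj : ∀ x y : S, orderOf x = 2 → orderOf y = 2 → IsConj x y := by
      intro x y hx hy
      have h1 := ClassicalGeometry.SLTwoFour.psl_isConj hodd (e x) (e y) (by rw [MulEquiv.orderOf_eq, hx])
        (by rw [MulEquiv.orderOf_eq, hy])
      have h2 := MonoidHom.map_isConj e.symm.toMonoidHom h1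
      simpa using h2
    have hd : s * t ∣ Nat.card S := hinv.trans (ReeElim.involutions_dvd hconj hS2)
    obtain ⟨k1, k2⟩ := ReeElim.psl_two hodd e (hHs.subgroup S) (hHt.subgroup S) ncop n2 ns1 nlt hd (by
      intro p k hp hpst hpk
      rcases Nat.eq_zero_or_pos k with rfl | hk
      · exact one_dvd _
      have h1 : p ^ k ∣ Nat.card G := hpk.trans (hSH.trans hHd)
      rw [hyp.card'] at h1
      have hpZ : Prime (p : ℤ) := Nat.prime_iff_prime_int.1 hp
      obtain ⟨z2, z3, zq, zq1, zq2⟩ := NseArith.prime_s X hoq hpZ (by exact_mod_cast hpst)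
      have c1 : Nat.Coprime (p ^ k) (q ^ 3) := by
        apply Nat.Coprime.pow
        exact (Nat.Prime.coprime_iff_not_dvd hp).2 (fun h => zq (by exact_mod_cast h))
      have c2 : Nat.Coprime (p ^ k) (q + 1) := by
        apply Nat.Coprime.pow_left
        exact (Nat.Prime.coprime_iff_not_dvd hp).2 (fun h => zq2 (by exact_mod_cast h))
      have c3 : Nat.Coprime (p ^ k) (q - 1) := by
        apply Nat.Coprime.pow_left
        refine (Nat.Prime.coprime_iff_not_dvd hp).2 (fun h => zq1 ?_)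
        have : ((q - 1 : ℕ) : ℤ) = (q : ℤ) - 1 := by push_cast [Nat.cast_sub hq1]; ring
        rw [← this]
        exact_mod_cast h
      exact (Nat.Coprime.mul_right c1 c2).dvd_of_dvd_mul_left (c3.dvd_of_dvd_mul_right h1))
    have hm1 := n27 k2
    subst hm1
    have hs19 : s = 19 := by rw [hs]; norm_num
    have ht37 : t = 37 := by rw [ht]; norm_num
    have hc2 := SmallSimple.PSLTwoPart.card_psl_two_odd hodd
    rw [← Nat.card_congr e.toEquiv, k1, ht37] at hc2
    have hS : Nat.card S = 25308 := by omega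
    have hna : H363.Frat.NonAdj H 19 2 := hHs.nonAdj (by norm_num) Nat.prime_two (by rw [hs19]) (by rw [hs19]; norm_num)
    exact ReeElim.kill_37 S hS hH8 hna
  · exfalso
    have hconj := SmallSimple.SylowEight.isConj_of_card_sylow_eight hSna h8 hS16
    have hd : s * t ∣ Nat.card S := hinv.trans (ReeElim.involutions_dvd hconj hS2)
    exact not_dvd_small hm hq hs ht h hd
  · -- Ree groups
    obtain ⟨hfin₀, hc₀, -, hi₀, -, -⟩ := ree_vals hm₀ hF
    obtain ⟨q₀, hq₀⟩ : ∃ q₀, q₀ = 3 ^ (2 * m₀ + 1) := ⟨_, rfl⟩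
    rw [← hq₀] at hc₀ hi₀
    have hq₀1 : 1 ≤ q₀ := by rw [hq₀]; exact Nat.one_le_pow _ _ (by norm_num)
    have hcS : (Nat.card S : ℤ) = vG (q₀ : ℤ) := by rw [Nat.card_congr e.toEquiv]; exact hc₀
    have hiS : (Nat.card {x : S // orderOf x = 2} : ℤ) = vb (q₀ : ℤ) := by
      rw [← hi₀]
      have : Nat.card {x : S // orderOf x = 2} =
          Nat.card {x : ↥(Cfsg.Lie.twistedG2 F (3 ^ m₀)) // orderOf x = 2} := by
        apply Nat.card_congr
        exact e.toEquiv.subtypeEquiv (fun x => by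
          show orderOf x = 2 ↔ orderOf (e x) = 2
          rw [MulEquiv.orderOf_eq])
      rw [this]
    have hiS' : Nat.card {x : S // orderOf x = 2} = q₀ ^ 2 * (q₀ * (q₀ - 1) + 1) := by
      have : (Nat.card {x : S // orderOf x = 2} : ℤ) = ((q₀ ^ 2 * (q₀ * (q₀ - 1) + 1) : ℕ) : ℤ) := by
        rw [hiS]
        unfold vb
        push_cast [Nat.cast_sub hq₀1]
        ring
      exact_mod_cast this
    rw [hiS'] at hinv
    have c3 : Nat.Coprime (s * t) (q₀ ^ 2) := by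
      rw [hq₀, ← pow_mul]
      apply Nat.Coprime.pow_right
      exact ((Nat.Prime.coprime_iff_not_dvd Nat.prime_three).2 n3).symm
    have hle1 : q ≤ q₀ := by
      have h1 := Nat.le_of_dvd (by positivity) (c3.dvd_of_dvd_mul_left hinv)
      by_contra hlt
      push Not at hlt
      have h2 : s * t = q * (q - 1) + 1 := by
        obtain ⟨q', rfl⟩ : ∃ q', q = q' + 1 := ⟨q - 1, by omega⟩
        have : q' + 1 - 1 = q' := by omega
        rw [this]
        nlinarith
      have h3 : q₀ * (q₀ - 1) < q * (q - 1) := by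
        apply Nat.mul_lt_mul_of_lt_of_le hlt (by omega) (by omega)
      omega
    have hle2 : q₀ ≤ q := by
      by_contra hlt
      push Not at hlt
      have h1 : Nat.card S ≤ Nat.card G := Nat.le_of_dvd Nat.card_pos (hSH.trans hHd)
      have h2 : vG (q₀ : ℤ) ≤ vG (q : ℤ) := by rw [← hcS, ← hGi]; exact_mod_cast h1
      have h3 : vG (q : ℤ) < vG (q₀ : ℤ) := by
        unfold vG
        have a1 : (q : ℤ) < q₀ := by exact_mod_cast hlt
        have a2 : (27 : ℤ) ≤ q := by exact_mod_cast h27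
        have a3 : (q : ℤ) ^ 3 < (q₀ : ℤ) ^ 3 := by gcongr
        have a4 : (0 : ℤ) < (q : ℤ) ^ 3 := by positivity
        have a5 : (q : ℤ) ^ 3 * ((q : ℤ) ^ 3 + 1) < (q₀ : ℤ) ^ 3 * ((q₀ : ℤ) ^ 3 + 1) := by gcongr
        have a6 : (0 : ℤ) < (q : ℤ) - 1 := by omega
        calc (q : ℤ) ^ 3 * ((q : ℤ) ^ 3 + 1) * ((q : ℤ) - 1) < (q₀ : ℤ) ^ 3 * ((q₀ : ℤ) ^ 3 + 1) * ((q : ℤ) - 1) :=
              mul_lt_mul_of_pos_right a5 a6
          _ ≤ (q₀ : ℤ) ^ 3 * ((q₀ : ℤ) ^ 3 + 1) * ((q₀ : ℤ) - 1) := by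
              apply mul_le_mul_of_nonneg_left (by omega)
              positivity
      omega
    have hqq : q₀ = q := le_antisymm hle2 hle1
    have hmm : m₀ = m := by
      rw [hq₀, hq] at hqq
      have := Nat.pow_right_injective (le_refl 2 |>.trans (by norm_num : 2 ≤ 3)) hqq
      omega
    subst hmm
    have hSG : Nat.card S = Nat.card G := by
      have : (Nat.card S : ℤ) = (Nat.card G : ℤ) := by rw [hcS, hGi, hqq]
      exact_mod_cast this
    obtain ⟨e1⟩ := hiso hSG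
    obtain ⟨e2⟩ := ReeField.twistedG2_congr (F := F) (K := K) (by rw [hF, hK]) (3 ^ m₀)
    exact ⟨e1.trans (e.trans e2)⟩


section iso

variable {K : Type*} [Field K] [Fintype K] {m : ℕ}

/-- the centralisers of the elements commuting with an element of order `p ∣ s` -/
theorem card_centralizer_dvd (hm : 1 ≤ m) (hK : Fintype.card K = 3 ^ (2 * m + 1)) {s : ℕ}
    (hs : s = 3 ^ (2 * m + 1) - 3 ^ (m + 1) + 1 ∨ s = 3 ^ (2 * m + 1) + 3 ^ (m + 1) + 1)
    {x : ↥(Cfsg.Lie.twistedG2 K (3 ^ m))} (hx : x ≠ 1) {p : ℕ} (hp : p.Prime) (hps : p ∣ s)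
    (hpx : p ∣ Nat.card (centralizer ({x} : Set ↥(Cfsg.Lie.twistedG2 K (3 ^ m))))) :
    Nat.card (centralizer ({x} : Set ↥(Cfsg.Lie.twistedG2 K (3 ^ m)))) ∣ s := by
  classical
  obtain ⟨n8, nst, ns1, nlt, ncop, n2, n3, -, -, -⟩ := nums hm (q := 3 ^ (2 * m + 1)) rfl
    (s := 3 ^ (2 * m + 1) - 3 ^ (m + 1) + 1) rfl (t := 3 ^ (2 * m + 1) + 3 ^ (m + 1) + 1) rfl
  have X := ReeVals.ctx hm
  have hoq := ReeVals.odd_q m
  set q := 3 ^ (2 * m + 1) with hq
  set a := q - 3 ^ (m + 1) + 1 with ha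
  set b := q + 3 ^ (m + 1) + 1 with hb
  have h27 : 27 ≤ q := by exact_mod_cast X.q27
  have hqq : q ^ 2 - q + 1 = a * b := by
    have h2 : q ≤ q ^ 2 := Nat.le_self_pow (by norm_num) q
    omega
  have hfin : Finite ↥(Cfsg.Lie.twistedG2 K (3 ^ m)) := (ree_vals hm hK).1
  have hsab : s ∣ q ^ 2 - q + 1 := by
    rw [hqq]
    rcases hs with rfl | rfl
    · exact Dvd.intro _ rfl
    · exact Dvd.intro_left _ rfl
  -- `p` divides none of the other numbers
  have hpab : p ∣ a * b := by rw [← hqq]; exact hps.trans hsab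
  have hpZ : Prime (p : ℤ) := Nat.prime_iff_prime_int.1 hp
  obtain ⟨z2, z3, zq, zq1, zq2⟩ := NseArith.prime_s X hoq hpZ (by exact_mod_cast hpab)
  have k2 : ¬ p ∣ 2 := fun h => z2 (by exact_mod_cast h)
  have k3 : ¬ p ∣ 3 := fun h => z3 (by exact_mod_cast h)
  have kq1 : ¬ p ∣ q - 1 := by
    intro h
    apply zq1
    have h1 : ((q - 1 : ℕ) : ℤ) = (q : ℤ) - 1 := by push_cast [Nat.cast_sub (show 1 ≤ q by omega)]; ring
    rw [← h1]
    exact_mod_cast h
  have kq2 : ¬ p ∣ q + 1 := by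
    intro h
    apply zq2
    exact_mod_cast h
  have kother : ∀ n : ℕ, p ∣ n → (n ∣ 6 ∨ n ∣ 9 ∨ n ∣ q - 1 ∨ n ∣ (q + 1) / 2 ∨ n ∣ a ∨ n ∣ b) → n ∣ s := by
    intro n hpn h
    rcases h with h | h | h | h | h | h
    · exfalso
      have h1 : p ∣ 2 * 3 := hpn.trans h
      rcases (Nat.Prime.dvd_mul hp).1 h1 with h2 | h2
      · exact k2 h2
      · exact k3 h2
    · exfalso
      have h1 : p ∣ 3 * 3 := hpn.trans h
      rcases (Nat.Prime.dvd_mul hp).1 h1 with h2 | h2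
      · exact k3 h2
      · exact k3 h2
    · exact absurd (hpn.trans h) kq1
    · exfalso
      apply kq2
      refine (hpn.trans h).trans ⟨2, ?_⟩
      omega
    · rcases hs with rfl | rfl
      · exact h
      · exfalso
        exact hp.one_lt.ne' (Nat.eq_one_of_dvd_coprimes ncop (hpn.trans h) hps)
    · rcases hs with rfl | rfl
      · exfalso
        exact hp.one_lt.ne' (Nat.eq_one_of_dvd_coprimes ncop hps (hpn.trans h))
      · exact h
  -- a cyclic centraliser has order dividing `s`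
  have hcyc : ∀ y : ↥(Cfsg.Lie.twistedG2 K (3 ^ m)), y ≠ 1 → orderOf y ∣ q ^ 2 - q + 1 →
      p ∣ Nat.card (centralizer ({y} : Set ↥(Cfsg.Lie.twistedG2 K (3 ^ m)))) →
      Nat.card (centralizer ({y} : Set ↥(Cfsg.Lie.twistedG2 K (3 ^ m)))) ∣ s := by
    intro y hy1 hy hpy
    obtain ⟨hc, -⟩ := Cfsg.Agent.LieRecognition.ReeTorusTw.isCyclic_centralizer hK hy1 hy
    obtain ⟨z, hz⟩ := IsCyclic.exists_ofOrder_eq_natCard (α := centralizer ({y} : Set ↥(Cfsg.Lie.twistedG2 K (3 ^ m))))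
    have h1 := (Cfsg.Agent.S1159.result hm hK (orderOf (z : ↥(Cfsg.Lie.twistedG2 K (3 ^ m))))).1 ⟨z, rfl⟩
    rw [Subgroup.orderOf_coe, hz] at h1
    exact kother _ hpy h1
  have := Fact.mk hp
  obtain ⟨⟨y, hy⟩, hyp⟩ := exists_prime_orderOf_dvd_card' p hpx
  rw [Subgroup.orderOf_mk] at hyp
  have hy1 : y ≠ 1 := by
    rintro rfl
    rw [orderOf_one] at hyp
    exact hp.one_lt.ne hyp
  have hpy : p ∣ Nat.card (centralizer ({y} : Set ↥(Cfsg.Lie.twistedG2 K (3 ^ m)))) := by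
    conv_lhs => rw [← hyp]
    exact Subgroup.orderOf_dvd_natCard _ (mem_centralizer_singleton_iff.2 rfl)
  have h1 := hcyc y hy1 (by rw [hyp]; exact hps.trans hsab) hpy
  have hxy : x ∈ centralizer ({y} : Set ↥(Cfsg.Lie.twistedG2 K (3 ^ m))) := by
    rw [mem_centralizer_singleton_iff] at hy ⊢
    exact hy.symm
  exact hcyc x hx (((Subgroup.orderOf_dvd_natCard _ hxy).trans h1).trans hsab) hpx

end iso

theorem hne1 {H : Type*} [Group H] {x : H} {p : ℕ} (hp : p.Prime) (hpx : p ∣ orderOf x) : x ≠ 1 := by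
  rintro rfl
  rw [orderOf_one] at hpx
  exact hp.one_lt.ne' (Nat.dvd_one.1 hpx)

/-- **Thompson's conjecture for `²G₂(q)`.** -/
theorem ree {L : Type u} [Group L] (hL : Cfsg.Lie.IsoRee L) {G : Type v} [Group G] [Finite G]
    (hZ : Subgroup.center G = ⊥)
    (hcs : Set.range (fun g : G => (Subgroup.centralizer ({g} : Set G)).index) =
      Set.range (fun g : L => (Subgroup.centralizer ({g} : Set L)).index)) : Nonempty (G ≃* L) := by
  obtain ⟨K, i1, i2, m, hm, hK, ⟨e⟩⟩ := hL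
  obtain ⟨hfin', hRG, -⟩ := ree_vals hm hK
  have hfin : Finite L := Finite.of_equiv _ e.symm.toEquiv
  obtain ⟨q, hq⟩ : ∃ q, q = 3 ^ (2 * m + 1) := ⟨_, rfl⟩
  obtain ⟨s, hs⟩ : ∃ s, s = 3 ^ (2 * m + 1) - 3 ^ (m + 1) + 1 := ⟨_, rfl⟩
  obtain ⟨t, ht⟩ : ∃ t, t = 3 ^ (2 * m + 1) + 3 ^ (m + 1) + 1 := ⟨_, rfl⟩
  obtain ⟨n8, nst, ns1, nlt, ncop, n2, n3, n703, n58, n27⟩ := nums hm hq hs ht
  have X := ReeVals.ctx hm
  rw [← hs, ← ht, ← hq] at X
  rw [← hq] at hRG
  have h27 : 27 ≤ q := by exact_mod_cast X.q27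
  have hq1 : 1 ≤ q := by omega
  have hLn : Nat.card L = q ^ 3 * (q ^ 3 + 1) * (q - 1) := by
    have : (Nat.card L : ℤ) = ((q ^ 3 * (q ^ 3 + 1) * (q - 1) : ℕ) : ℤ) := by
      rw [Nat.card_congr e.toEquiv, hRG]
      unfold vG
      push_cast [Nat.cast_sub hq1]
      ring
    exact_mod_cast this
  -- centralisers in `L`
  have hcL : ∀ x : L, x ≠ 1 → ∀ w : ℕ, w = s ∨ w = t → ∀ p : ℕ, p.Prime → p ∣ w →
      p ∣ Nat.card (centralizer ({x} : Set L)) → Nat.card (centralizer ({x} : Set L)) ∣ w := by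
    intro x hx w hw p hp hpw hpx
    have h1 : Nat.card (centralizer ({x} : Set L)) =
        Nat.card (centralizer ({e x} : Set ↥(Cfsg.Lie.twistedG2 K (3 ^ m)))) := by
      refine Nat.card_congr (e.toEquiv.subtypeEquiv fun y => ?_)
      show y ∈ centralizer ({x} : Set L) ↔ e y ∈ centralizer ({e x} : Set _)
      rw [mem_centralizer_singleton_iff, mem_centralizer_singleton_iff, ← map_mul, ← map_mul, e.injective.eq_iff]
    rw [h1] at hpx ⊢
    exact card_centralizer_dvd hm hK (by rw [← hs, ← ht]; exact hw)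
      (fun h => hx (e.injective (by rw [h, map_one]))) hp hpw hpx
  have hstL : s * t ∣ Nat.card L := by
    refine ⟨q ^ 3 * (q + 1) * (q - 1), ?_⟩
    rw [hLn]
    have h1 : q ^ 3 + 1 = (q + 1) * (s * t) := by
      have h2 : s * t + q = q ^ 2 + 1 := nst
      nlinarith
    rw [h1]; ring
  have h2L : 2 ∣ Nat.card L := by
    rw [hLn]
    have h1 : q - 1 = 2 * ((q - 1) / 2) := by omega
    rw [h1]
    exact Dvd.dvd.mul_left (Dvd.intro _ rfl) _
  obtain ⟨p₀, hp₀, hp₀s⟩ := Nat.exists_prime_and_dvd (n := s) (by omega)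
  have hn2s : ¬ 2 ∣ s := fun h => n2 (h.mul_right t)
  have hself : ∀ x : L, orderOf x ∣ Nat.card (centralizer ({x} : Set L)) := fun x =>
    Subgroup.orderOf_dvd_natCard _ (mem_centralizer_singleton_iff.2 rfl)
  -- the centre is trivial
  have hZL : center L = ⊥ := by
    rw [eq_bot_iff]
    intro z hz
    rw [mem_bot]
    by_contra hz1
    have htop : centralizer ({z} : Set L) = ⊤ := by
      rw [eq_top_iff]
      intro x _
      rw [mem_centralizer_singleton_iff]
      exact (mem_center_iff.1 hz) x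
    have h1 := hcL z hz1 s (Or.inl rfl) p₀ hp₀ hp₀s (by
      rw [htop, Subgroup.card_top]
      exact hp₀s.trans ((Dvd.intro _ rfl).trans hstL))
    rw [htop, Subgroup.card_top] at h1
    exact hn2s (h2L.trans h1)
  have hcard : Nat.card G = Nat.card L := by
    refine Cfsg.Agent.S4184.result hZ hZL hcs ⟨{p | p ∣ s}, ⟨p₀, hp₀s, hp₀, ?_⟩, ⟨2, hn2s, Nat.prime_two, h2L⟩, ?_⟩
    · exact hp₀s.trans ((Dvd.intro _ rfl).trans hstL)
    · rintro a ha b hb hap hbp - - ⟨x, hx⟩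
      apply hb
      have hax : a ∣ orderOf x := hx ▸ Dvd.intro _ rfl
      have h1 := hcL x (hne1 hap hax) s (Or.inl rfl) a hap ha (hax.trans (hself x))
      exact ((Dvd.intro_left a rfl : b ∣ a * b).trans (hx ▸ hself x)).trans h1
  have hiso : ∀ w : ℕ, w = s ∨ w = t → Isol w G := by
    intro w hw x p p' hp hp' hpw hp'w hpx hp'x
    have hx1 := hne1 hp hpx
    obtain ⟨l, hl, h⟩ := exists_cs hZ hcs hx1
    have h1 := card_cent hcard h
    have h2 : orderOf x ∣ Nat.card (centralizer ({l} : Set L)) := by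
      rw [← h1]
      exact Subgroup.orderOf_dvd_natCard _ (mem_centralizer_singleton_iff.2 rfl)
    exact hp'w ((hp'x.trans h2).trans (hcL l hl w hw p hp hpw (hpx.trans h2)))
  obtain ⟨f⟩ := of_hyp (K := K) (G := G) hm hK hq hs ht
    { card := by rw [hcard, hLn], q8 := n8, st := nst, s1 := ns1, t1 := by omega, cop := ncop, two := n2,
      three := n3, is := hiso s (Or.inl rfl), it := hiso t (Or.inr rfl) }
  exact ⟨f.trans e.symm⟩

end Cfsg.Agent.H35.TCRee
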