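import Cfsg.Agent.H35.Cubic
import Cfsg.Agent.S0093
import Cfsg.Agent.S0121
import Cfsg.Agent.Lib.FrattiniBasic

/-!
# Critical subgroups in ambient form, and normality of the K-infinity subgroups under `p`-stability
-/

set_option autoImplicit false

universe u

namespace Cfsg.Agent.H35.Cubic2

open Cfsg Subgroup Cfsg.Agent.H35.KSeq Cfsg.Agent.H35.Chief Cfsg.Agent.H35.Cubic
open scoped commutatorElement

variable {G : Type u} [Group G]

/-- **Critical subgroups**, in ambient form: every normal `p`-subgroup `T` of `G` has a critical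
subgroup `C`. -/
theorem exists_critical [Finite G] {p : ℕ} [Fact p.Prime] (T : Subgroup G) [hTn : T.Normal]
    (hT : IsPGroup p ↥T) :
    ∃ C : Subgroup G, C ≤ T ∧ C.Normal ∧ (C.subgroupOf T).Characteristic ∧
      (∀ a ∈ C, a ^ p ∈ Zc C) ∧ ⁅C, C⁆ ≤ centralizer (C : Set G) ∧ ⁅T, C⁆ ≤ Zc C ∧
      T ⊓ centralizer (C : Set G) = Zc C ∧
      (∀ φ : MulAut ↥T, (orderOf φ).Coprime p → (∀ a : ↥T, (a : G) ∈ C → φ a = a) → φ = 1) := by
  obtain ⟨H, hH, h1, h2, h3⟩ := Cfsg.Agent.S0093.result hT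
  have h2' := h2
  have hCT : H.map T.subtype ≤ T := map_subtype_le H
  have hsub : (H.map T.subtype).subgroupOf T = H := by
    rw [subgroupOf, comap_map_eq_self_of_injective T.subtype_injective]
  have hZ : Zc (H.map T.subtype) = (H ⊓ centralizer (H : Set ↥T)).map T.subtype :=
    map_centralizer_inf T.subtype T.subtype_injective H
  have hTC : ⁅T, H.map T.subtype⁆ ≤ Zc (H.map T.subtype) := by
    have e : T = (⊤ : Subgroup ↥T).map T.subtype := by
      rw [← MonoidHom.range_eq_map, range_subtype]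
    have e2 : ⁅T, H.map T.subtype⁆ ≤ ⁅(⊤ : Subgroup ↥T).map T.subtype, H.map T.subtype⁆ :=
      commutator_mono e.le le_rfl
    rw [← map_commutator] at e2
    rw [commutator_comm] at h2
    rw [hZ]
    exact e2.trans (map_mono h2)
  refine ⟨H.map T.subtype, hCT, ?_, ?_, ?_, ?_, hTC, ?_, ?_⟩
  · exact ConjAct.normal_of_characteristic_of_normal
  · rw [hsub]; exact hH
  · rintro _ ⟨a, ha, rfl⟩
    rw [hZ]
    refine ⟨a ^ p, ⟨pow_mem ha p, ?_⟩, by simp⟩
    have hpow := Cfsg.Agent.Lib.FrattiniBasic.pow_mem_frattini (hT.to_subgroup H) ⟨a, ha⟩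
    exact h1 ⟨_, hpow, by simp⟩
  · exact ((commutator_mono hCT le_rfl).trans hTC).trans inf_le_right
  · apply le_antisymm
    · rintro x ⟨hxT, hxC⟩
      refine ⟨⟨⟨x, hxT⟩, h3 ?_, rfl⟩, hxC⟩
      rw [mem_centralizer_iff]
      intro b hb
      apply Subtype.ext
      exact mem_centralizer_iff.1 hxC b ⟨b, hb, rfl⟩
    · exact inf_le_inf_right _ hCT
  · intro φ hφ hfix
    refine Cfsg.Agent.S0121.result hT H hH h1 h2' h3 φ hφ fun x hx => hfix x ⟨x, hx, rfl⟩

/-- If `U/V` is a chief factor of `G` which is a `p`-group, and `g` acts quadratically but not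
trivially on it, then `G/V` is not `p`-stable. -/
theorem not_stable_of_chief [Finite G] {p : ℕ} [Fact p.Prime] {U V : Subgroup G} [hV : V.Normal]
    (h : IsChiefFactor U V) (hU : IsPGroup p ↥U) {g : G}
    (h2 : ⁅⁅U, zpowers g⁆, zpowers g⁆ ≤ V) (h1 : ¬ ⁅U, zpowers g⁆ ≤ V) :
    ¬ IsNormalizerPStable p (G ⧸ V) := by
  intro hst
  have hUn := h.2.1
  set π := QuotientGroup.mk' V with hπ
  have hsurj : Function.Surjective π := QuotientGroup.mk'_surjective V
  set P := U.map π with hP
  have hPn : P.Normal := hUn.map π hsurj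
  have hPp : IsPGroup p ↥P := hU.map π
  have key : ∀ X : Subgroup G, X ≤ V ↔ X.map π = ⊥ := by
    intro X
    rw [Subgroup.map_eq_bot_iff, hπ, QuotientGroup.ker_mk']
  have hz : (zpowers g).map π = zpowers (π g) := MonoidHom.map_zpowers π g
  have hmin : ∀ N : Subgroup (G ⧸ V), N.Normal → N ≤ P → N = ⊥ ∨ N = P := by
    intro N hN hNP
    have hNc : (N.comap π).Normal := hN.comap π
    have h3 : V ≤ N.comap π := by
      intro v hv
      rw [mem_comap]
      have : π v = 1 := (QuotientGroup.eq_one_iff v).2 hv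
      rw [this]; exact one_mem N
    have h4 : N.comap π ≤ U := by
      have := comap_mono (f := π) hNP
      rw [hP, comap_map_eq, hπ, QuotientGroup.ker_mk', sup_eq_left.2 h.1.le] at this
      exact this
    have h5 : (N.comap π).map π = N := map_comap_eq_self_of_surjective hsurj N
    rcases h.2.2.2 _ hNc h3 h4 with h6 | h6
    · left
      rw [← h5, h6]
      exact (key V).1 le_rfl
    · right
      rw [← h5, h6]
  have hNtop : normalizer (P : Set (G ⧸ V)) = ⊤ := normalizer_eq_top P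
  have hgN : π g ∈ normalizer (P : Set (G ⧸ V)) := by rw [hNtop]; exact mem_top _
  have hq : ⁅⁅P, zpowers (π g)⁆, zpowers (π g)⁆ = ⊥ := by
    rw [← hz, hP, ← map_commutator, ← map_commutator]
    exact (key _).1 h2
  have hmem := hst P hPp (π g) hgN hq
  set N := normalizer (P : Set (G ⧸ V)) with hN
  set C' := (centralizer (P : Set (G ⧸ V))).subgroupOf N with hC'
  set R₀ : Subgroup ↥N := (pCore p (↥N ⧸ C')).comap (QuotientGroup.mk' C') with hR₀
  have hR₀n : R₀.Normal := (Cfsg.Agent.Lib.Cores.pCore_normal p).comap _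
  have hsub : Function.Surjective N.subtype := by
    intro x
    exact ⟨⟨x, by rw [hNtop]; exact mem_top _⟩, rfl⟩
  have hRn : (R₀.map N.subtype).Normal := hR₀n.map N.subtype hsub
  have hR : ∀ x ∈ R₀.map N.subtype, ∃ k : ℕ, x ^ p ^ k ∈ centralizer (P : Set (G ⧸ V)) := by
    rintro _ ⟨x, hx, rfl⟩
    obtain ⟨k, hk⟩ := Cfsg.Agent.Lib.Cores.pCore_isPGroup (G := ↥N ⧸ C') p ⟨_, hx⟩
    refine ⟨k, ?_⟩
    have h3 : (QuotientGroup.mk' C') (x ^ p ^ k) = 1 := by
      rw [map_pow]
      simpa using congrArg Subtype.val hk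
    have h4 := (QuotientGroup.eq_one_iff (N := C') (x ^ p ^ k)).1 h3
    rw [hC', mem_subgroupOf] at h4
    simpa using h4
  have hle := PLocal.ChiefReduction.le_centralizer_of_minimal hPn hPp hmin hRn hR
  have h5 : π g ∈ centralizer (P : Set (G ⧸ V)) := hle ⟨⟨π g, hgN⟩, hmem, rfl⟩
  apply h1
  rw [key, map_commutator, hz, commutator_comm, commutator_eq_bot_iff_le_centralizer, zpowers_le]
  exact h5

/-- **Normality under `p`-stability.** If `C_G(O_p(G)) ≤ O_p(G)` and every quotient of `G` is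
`p`-stable in the normalizer form, both K-infinity subgroups of a Sylow `p`-subgroup (or of any
subgroup containing `O_p(G)`) are normal. -/
theorem stable_normal [Finite G] {p : ℕ} [Fact p.Prime] {S : Subgroup G} (hTS : pCore p G ≤ S)
    (hCG : centralizer ((pCore p G : Subgroup G) : Set G) ≤ pCore p G)
    (hst : ∀ (N : Subgroup G) (_ : N.Normal), IsNormalizerPStable p (G ⧸ N)) :
    (inducedFunctor kInfLower S).Normal ∧ (inducedFunctor kInfUpper S).Normal := by
  by_contra hcon
  have hK : ¬ (inducedFunctor kInfLower S).Normal ∨ ¬ (inducedFunctor kInfUpper S).Normal :=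
    not_and_or.1 hcon
  have hTn : (pCore p G).Normal := Cfsg.Agent.Lib.Cores.pCore_normal p
  have hTp : IsPGroup p ↥(pCore p G) := Cfsg.Agent.Lib.Cores.pCore_isPGroup p
  obtain ⟨C, hCT, hCn, -, -, hC2, hTC, -, hA5⟩ := exists_critical (pCore p G) hTp
  obtain ⟨g, hgS, hgT, -, -, h4⟩ := exists_cubic hTS hCT hC2 hTC hA5 hK
  obtain ⟨U, V, hUV, hUC, hq, hn⟩ := h4 hCG
  have hV := hUV.2.2.1
  exact not_stable_of_chief hUV (hTp.to_le (hUC.trans hCT)) hq hn (hst V hV)

theorem stable_normal_sylow [Finite G] {p : ℕ} [Fact p.Prime] (S : Sylow p G)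
    (hCG : centralizer ((pCore p G : Subgroup G) : Set G) ≤ pCore p G)
    (hst : ∀ (N : Subgroup G) (_ : N.Normal), IsNormalizerPStable p (G ⧸ N)) :
    (inducedFunctor kInfLower (S : Subgroup G)).Normal ∧
      (inducedFunctor kInfUpper (S : Subgroup G)).Normal :=
  stable_normal (Cfsg.Agent.Lib.Cores.pCore_le_sylow S) hCG hst

end Cfsg.Agent.H35.Cubic2
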