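import Cfsg.Agent.H35.KSeq
import Cfsg.Agent.PLocal.ChiefReduction
import Cfsg.Prelude.Def_LocalEven
import Cfsg.Prelude.Def_PLocal
import Cfsg.Agent.S0064

/-!
# Chief factors: Jordan–Hölder step, action of `O_p(G)`, Clifford's theorem for subnormal subgroups
-/

set_option autoImplicit false

universe u v

namespace Cfsg.Agent.H35.Chief

open Cfsg Subgroup Cfsg.Agent.H35.KSeq
open scoped commutatorElement

variable {G : Type u} [Group G]

/-! ### Iterated commutators -/

theorem iter_zero (N X : Subgroup G) : iterCommutator N X 0 = N := rfl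

theorem iter_succ (N X : Subgroup G) (m : ℕ) :
    iterCommutator N X (m + 1) = ⁅iterCommutator N X m, X⁆ := rfl

theorem iter_mono {M N X Y : Subgroup G} (h : M ≤ N) (h' : X ≤ Y) (m : ℕ) :
    iterCommutator M X m ≤ iterCommutator N Y m := by
  induction m with
  | zero => exact h
  | succ m ih => rw [iter_succ, iter_succ]; exact commutator_mono ih h'

theorem iter_le {N X : Subgroup G} (h : X ≤ normalizer (N : Set G)) (m : ℕ) :
    iterCommutator N X m ≤ N := by
  induction m with
  | zero => exact le_rfl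
  | succ m ih =>
    rw [iter_succ]
    exact (commutator_mono ih le_rfl).trans (le_normalizer_iff_commutator_le_left.1 h)

theorem iter_le_of_normal (N X : Subgroup G) [N.Normal] (m : ℕ) :
    iterCommutator N X m ≤ N := iter_le (le_normalizer_of_normal' N X) m

theorem iter_map {R : Type v} [Group R] (f : G →* R) (N X : Subgroup G) (m : ℕ) :
    (iterCommutator N X m).map f = iterCommutator (N.map f) (X.map f) m := by
  induction m with
  | zero => rfl
  | succ m ih => rw [iter_succ, iter_succ, map_commutator, ih]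

theorem iter_add (N X : Subgroup G) (m n : ℕ) :
    iterCommutator N X (m + n) = iterCommutator (iterCommutator N X m) X n := by
  induction n with
  | zero => rfl
  | succ n ih => rw [← add_assoc, iter_succ, ih, iter_succ]

theorem iter_bot (X : Subgroup G) (m : ℕ) : iterCommutator (⊥ : Subgroup G) X m = ⊥ := by
  induction m with
  | zero => rfl
  | succ m ih => rw [iter_succ, ih]; exact commutator_bot_left _

theorem iter_le_of_le {N X V : Subgroup G} (hX : X ≤ normalizer (V : Set G)) {m n : ℕ}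
    (hmn : m ≤ n) (h : iterCommutator N X m ≤ V) : iterCommutator N X n ≤ V := by
  obtain ⟨k, rfl⟩ := Nat.exists_eq_add_of_le hmn
  rw [iter_add]
  exact (iter_mono h le_rfl k).trans (iter_le hX k)

/-- Modulo a normal subgroup. -/
theorem iter_sup_le {U V X : Subgroup G} [hV : V.Normal] {m : ℕ}
    (h : iterCommutator U X m ≤ V) : iterCommutator (U ⊔ V) X m ≤ V := by
  have key : ∀ W : Subgroup G, iterCommutator W X m ≤ V ↔
      iterCommutator (W.map (QuotientGroup.mk' V)) (X.map (QuotientGroup.mk' V)) m = ⊥ := by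
    intro W
    rw [← iter_map, Subgroup.map_eq_bot_iff, QuotientGroup.ker_mk']
  rw [key] at h ⊢
  have e : (U ⊔ V).map (QuotientGroup.mk' V) = U.map (QuotientGroup.mk' V) := by
    rw [Subgroup.map_sup, QuotientGroup.map_mk'_self, sup_bot_eq]
  rw [e]
  exact h

theorem commutator_sup_normal_le (A V X : Subgroup G) [hV : V.Normal] :
    ⁅A ⊔ V, X⁆ ≤ ⁅A, X⁆ ⊔ V := by
  have e : (A ⊔ V).map (QuotientGroup.mk' V) = A.map (QuotientGroup.mk' V) := by
    rw [Subgroup.map_sup, QuotientGroup.map_mk'_self, sup_bot_eq]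
  have h : ⁅A ⊔ V, X⁆.map (QuotientGroup.mk' V) ≤ ⁅A, X⁆.map (QuotientGroup.mk' V) := by
    rw [map_commutator, map_commutator, e]
  rw [Subgroup.map_le_map_iff, QuotientGroup.ker_mk'] at h
  exact h

/-! ### The modular law -/

theorem modular_left {A B C : Subgroup G} [B.Normal] (h : A ≤ C) : (A ⊔ B) ⊓ C = A ⊔ B ⊓ C := by
  apply le_antisymm
  · rintro x ⟨hx, hxC⟩
    replace hx : x ∈ A ⊔ B := hx
    rw [mem_sup_of_normal_right] at hx
    obtain ⟨a, ha, b, hb, rfl⟩ := hx
    have hb' : b ∈ C := by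
      have := C.mul_mem (C.inv_mem (h ha)) hxC
      simpa using this
    exact mul_mem_sup ha ⟨hb, hb'⟩
  · exact le_inf (sup_le le_sup_left (inf_le_left.trans le_sup_right)) (sup_le h inf_le_right)

theorem modular_right {A B C : Subgroup G} [A.Normal] (h : A ≤ C) : (A ⊔ B) ⊓ C = A ⊔ B ⊓ C := by
  apply le_antisymm
  · rintro x ⟨hx, hxC⟩
    replace hx : x ∈ A ⊔ B := hx
    rw [mem_sup_of_normal_left] at hx
    obtain ⟨a, ha, b, hb, rfl⟩ := hx
    have hb' : b ∈ C := by
      have := C.mul_mem (C.inv_mem (h ha)) hxC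
      simpa using this
    exact mul_mem_sup ha ⟨hb, hb'⟩
  · exact le_inf (sup_le le_sup_left (inf_le_left.trans le_sup_right)) (sup_le h inf_le_right)

/-! ### Chief factors -/

theorem exists_chief [Finite G] {M N : Subgroup G} [hM : M.Normal] [hN : N.Normal] (h : M < N) :
    ∃ V, M ≤ V ∧ IsChiefFactor N V := by
  obtain ⟨V, hV⟩ := (Set.toFinite {V : Subgroup G | V.Normal ∧ M ≤ V ∧ V < N}).exists_maximal
    ⟨M, hM, le_rfl, h⟩
  refine ⟨V, hV.1.2.1, hV.1.2.2, hN, hV.1.1, fun W hW hVW hWN => ?_⟩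
  by_cases hWN' : W = N
  · exact Or.inr hWN'
  · left
    exact le_antisymm (hV.2 ⟨hW, hV.1.2.1.trans hVW, lt_of_le_of_ne hWN hWN'⟩ hVW) hVW

/-- The Jordan–Hölder step: a chief factor is isomorphic to one below or one above a given normal
subgroup. -/
theorem chief_split {U V N : Subgroup G} [hN : N.Normal] (h : IsChiefFactor U V) :
    (IsChiefFactor (U ⊓ N) (V ⊓ N) ∧ U ⊓ N ⊔ V = U) ∨
      (IsChiefFactor (U ⊔ N) (V ⊔ N) ∧ U ⊓ N ≤ V ∧ U ⊓ (V ⊔ N) = V) := by
  obtain ⟨hVU, hU, hV, hmin⟩ := h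
  have hUN : (U ⊓ N).Normal := normal_inf_normal U N
  have hVN : (V ⊓ N).Normal := normal_inf_normal V N
  have hUN' : (U ⊔ N).Normal := sup_normal U N
  have hVN' : (V ⊔ N).Normal := sup_normal V N
  have hW : (U ⊓ N ⊔ V).Normal := sup_normal _ _
  rcases hmin _ hW le_sup_right (sup_le inf_le_left hVU.le) with h1 | h1
  · right
    have h2 : U ⊓ N ≤ V := by rw [← h1]; exact le_sup_left
    have h3 : U ⊓ (V ⊔ N) = V := by
      rw [inf_comm, modular_left hVU.le, inf_comm N U]
      exact sup_eq_left.2 h2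
    refine ⟨⟨?_, hUN', hVN', ?_⟩, h2, h3⟩
    · refine lt_of_le_of_ne (sup_le_sup_right hVU.le N) fun he => hVU.ne ?_
      rw [← h3, he, inf_eq_left.2 le_sup_left]
    · intro X hX hVX hXU
      have hXe : X = (X ⊓ U) ⊔ N := by
        have : (N ⊔ U) ⊓ X = N ⊔ U ⊓ X := modular_left (le_sup_right.trans hVX)
        rw [sup_comm N U, inf_eq_right.2 hXU] at this
        rw [inf_comm X U, sup_comm (U ⊓ X) N]
        exact this
      have hXUn : (X ⊓ U).Normal := normal_inf_normal X U
      rcases hmin _ hXUn (le_inf (le_sup_left.trans hVX) hVU.le) inf_le_right with h4 | h4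
      · left; rw [hXe, h4]
      · right; rw [hXe, h4]
  · left
    refine ⟨⟨?_, hUN, hVN, ?_⟩, h1⟩
    · refine lt_of_le_of_ne (inf_le_inf_right N hVU.le) fun he => hVU.ne ?_
      rw [← h1, ← he]
      exact (sup_eq_right.2 inf_le_left).symm
    · intro X hX hVX hXU
      have hXV : (X ⊔ V).Normal := sup_normal X V
      rcases hmin _ hXV le_sup_right (sup_le (hXU.trans inf_le_left) hVU.le) with h4 | h4
      · left
        apply le_antisymm _ hVX
        exact le_inf (by rw [← h4]; exact le_sup_left) (hXU.trans inf_le_right)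
      · right
        apply le_antisymm hXU
        rw [← h4, modular_left (hXU.trans inf_le_right)]
        exact sup_le le_rfl hVX

/-- Transfer of an iterated commutator condition from chief factors below `N` and between `N` and
`M` to all chief factors below `M`. -/
theorem chief_iter_le {M N X : Subgroup G} [hN : N.Normal] (hNM : N ≤ M) {m : ℕ}
    (h1 : ∀ U V : Subgroup G, IsChiefFactor U V → U ≤ N → iterCommutator U X m ≤ V)
    (h2 : ∀ U V : Subgroup G, IsChiefFactor U V → N ≤ V → U ≤ M → iterCommutator U X m ≤ V)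
    (U V : Subgroup G) (h : IsChiefFactor U V) (hUM : U ≤ M) : iterCommutator U X m ≤ V := by
  have hV := h.2.2.1
  have hU := h.2.1
  rcases chief_split (N := N) h with ⟨hc, he⟩ | ⟨hc, -, he⟩
  · have := (h1 _ _ hc inf_le_right).trans inf_le_left
    rw [← he]
    exact iter_sup_le this
  · have h3 := h2 _ _ hc le_sup_right (sup_le hUM hNM)
    rw [← he]
    exact le_inf (iter_le_of_normal U X m) ((iter_mono le_sup_left le_rfl m).trans h3)

/-- A normal `p`-subgroup (or any nilpotent normal subgroup) centralizes the chief factors below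
it. -/
theorem chief_centralized {T : Subgroup G} (hT : Group.IsNilpotent ↥T) [hTn : T.Normal]
    {U V : Subgroup G} (h : IsChiefFactor U V) (hUT : U ≤ T) : ⁅U, T⁆ ≤ V := by
  obtain ⟨hVU, hU, hV, hmin⟩ := h
  have hn : (⁅U, T⁆ ⊔ V).Normal := sup_normal _ _
  rcases hmin _ hn le_sup_right (sup_le (commutator_le_left U T) hVU.le) with h1 | h1
  · rw [← h1]; exact le_sup_left
  · exfalso
    obtain ⟨n, hn⟩ := (Subgroup.isNilpotent_iff_lowerCentralSeries T).1 hT
    have h2 : ∀ k, U ≤ iterCommutator U T k ⊔ V := by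
      intro k
      induction k with
      | zero => exact le_sup_left
      | succ k ih =>
        have h3 : ⁅U, T⁆ ≤ ⁅iterCommutator U T k, T⁆ ⊔ V := by
          exact (commutator_mono ih le_rfl).trans (commutator_sup_normal_le _ _ _)
        rw [iter_succ]
        calc U = ⁅U, T⁆ ⊔ V := h1.symm
          _ ≤ _ := sup_le h3 le_sup_right
    have h3 : ∀ k, iterCommutator U T k ≤ T.lowerCentralSeries k := by
      intro k
      induction k with
      | zero => exact hUT
      | succ k ih => rw [iter_succ, Subgroup.lowerCentralSeries_succ]; exact commutator_mono ih le_rfl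
    have h4 := h2 n
    have h5 := h3 n
    rw [hn, le_bot_iff] at h5
    rw [h5, bot_sup_eq] at h4
    exact hVU.not_ge h4

/-! ### Clifford's theorem in an abelian normal section -/

/-- `W` is an `L`-invariant subgroup between `V` and `U`. -/
def Inv (L V U W : Subgroup G) : Prop := V ≤ W ∧ W ≤ U ∧ L ≤ normalizer (W : Set G)

/-- Every `L`-invariant subgroup of the section `U/V` has an `L`-invariant complement. -/
def CompRed (L V U : Subgroup G) : Prop :=
  ∀ W, Inv L V U W → ∃ W', Inv L V U W' ∧ W ⊔ W' = U ∧ W ⊓ W' = V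

theorem map_conj_map_conj (a b : G) (W : Subgroup G) :
    (W.map (MulAut.conj a).toMonoidHom).map (MulAut.conj b).toMonoidHom =
      W.map (MulAut.conj (b * a)).toMonoidHom := by
  rw [map_map]
  congr 1
  ext x
  simp

theorem map_conj_inv_cancel (a : G) (W : Subgroup G) :
    (W.map (MulAut.conj a).toMonoidHom).map (MulAut.conj a⁻¹).toMonoidHom = W := by
  rw [map_conj_map_conj, inv_mul_cancel]
  ext x
  simp

theorem map_conj_inv_cancel' (a : G) (W : Subgroup G) :
    (W.map (MulAut.conj a⁻¹).toMonoidHom).map (MulAut.conj a).toMonoidHom = W := by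
  have := map_conj_inv_cancel a⁻¹ W
  rwa [inv_inv] at this

theorem Inv.map_conj {N V U W : Subgroup G} [hV : V.Normal] [hU : U.Normal] {l : G}
    (hl : l ∈ normalizer (N : Set G)) (h : Inv N V U W) :
    Inv N V U (W.map (MulAut.conj l).toMonoidHom) := by
  obtain ⟨h1, h2, h3⟩ := h
  have eV : V.map (MulAut.conj l).toMonoidHom = V := Normal.map_conj_eq V l
  have eU : U.map (MulAut.conj l).toMonoidHom = U := Normal.map_conj_eq U l
  have eN : N.map (MulAut.conj l).toMonoidHom = N := mem_normalizer_iff_map_conj_eq.1 hl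
  refine ⟨?_, ?_, ?_⟩
  · rw [← eV]; exact map_mono h1
  · rw [← eU]; exact map_mono h2
  · have : N.map (MulAut.conj l).toMonoidHom ≤
        (normalizer (W : Set G)).map (MulAut.conj l).toMonoidHom := map_mono h3
    rw [eN] at this
    exact this.trans (le_normalizer_map _)

theorem Inv.mono {N L V U W : Subgroup G} (hNL : N ≤ L) (h : Inv L V U W) : Inv N V U W :=
  ⟨h.1, h.2.1, hNL.trans h.2.2⟩

theorem Inv.inf {L V U W W' : Subgroup G} (h : Inv L V U W) (h' : Inv L V U W') :
    Inv L V U (W ⊓ W') := by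
  refine ⟨le_inf h.1 h'.1, inf_le_left.trans h.2.1, ?_⟩
  exact (le_inf h.2.2 h'.2.2).trans inf_normalizer_le_normalizer_inf

theorem le_normalizer_sup {L A B : Subgroup G} (hA : L ≤ normalizer (A : Set G))
    (hB : L ≤ normalizer (B : Set G)) : L ≤ normalizer ((A ⊔ B : Subgroup G) : Set G) := by
  intro l hl
  rw [mem_normalizer_iff_map_conj_eq]
  have eA : A.map (MulAut.conj l).toMonoidHom = A := mem_normalizer_iff_map_conj_eq.1 (hA hl)
  have eB : B.map (MulAut.conj l).toMonoidHom = B := mem_normalizer_iff_map_conj_eq.1 (hB hl)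
  have : (A ⊔ B).map (MulAut.conj l).toMonoidHom = A ⊔ B := by rw [Subgroup.map_sup, eA, eB]
  exact this

theorem Inv.sup {L V U W W' : Subgroup G} (h : Inv L V U W) (h' : Inv L V U W') :
    Inv L V U (W ⊔ W') :=
  ⟨h.1.trans le_sup_left, sup_le h.2.1 h'.2.1, le_normalizer_sup h.2.2 h'.2.2⟩

/-- The subgroups of an abelian section are normalized by its top. -/
theorem Inv.top_le_normalizer {L V U W : Subgroup G} (hab : ⁅U, U⁆ ≤ V) (h : Inv L V U W) :
    U ≤ normalizer (W : Set G) :=
  le_normalizer_iff_commutator_le_right.2 ((commutator_mono le_rfl h.2.1).trans (hab.trans h.1))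

/-- Modularity in the section. -/
theorem inf_sup_eq_of {L V U w t a : Subgroup G} (hab : ⁅U, U⁆ ≤ V) (hw : Inv L V U w)
    (ht : Inv L V U t) (ha : Inv L V U a) (h1 : w ⊓ t = V) (h2 : (w ⊔ t) ⊓ a = V) :
    w ⊓ (t ⊔ a) = V := by
  apply le_antisymm
  · rintro x ⟨hxw, hx⟩
    have hx' : x ∈ ((t ⊔ a : Subgroup G) : Set G) := hx
    rw [coe_mul_of_left_le_normalizer_right t a (ht.2.1.trans (ha.top_le_normalizer hab))] at hx'
    obtain ⟨τ, hτ, α, hα, rfl⟩ := Set.mem_mul.1 hx'
    have hα' : α ∈ (w ⊔ t) ⊓ a := by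
      refine ⟨?_, hα⟩
      have h3 : τ⁻¹ * (τ * α) ∈ w ⊔ t :=
        mul_mem (inv_mem ((le_sup_right : t ≤ w ⊔ t) hτ)) ((le_sup_left : w ≤ w ⊔ t) hxw)
      simpa using h3
    rw [h2] at hα'
    rw [← h1]
    exact ⟨hxw, mul_mem hτ (ht.1 hα')⟩
  · exact le_inf hw.1 (ht.1.trans le_sup_left)

/-- The Clifford step: complete reducibility passes to normal subgroups. -/
theorem compRed_step [Finite G] {L N V U : Subgroup G} [hV : V.Normal] [hU : U.Normal]
    (hVU : V ≤ U) (hab : ⁅U, U⁆ ≤ V) (hNL : N ≤ L) (hLN : L ≤ normalizer (N : Set G))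
    (h : CompRed L V U) : CompRed N V U := by
  classical
  -- the atoms
  set 𝒜 : Set (Subgroup G) := {A | Inv N V U A ∧ A ≠ V ∧
    ∀ A', Inv N V U A' → A' ≤ A → A' ≠ V → A' = A} with h𝒜
  have hatom : ∀ W, Inv N V U W → W ≠ V → ∃ A ∈ 𝒜, A ≤ W := by
    intro W hW hWV
    obtain ⟨A, hA⟩ := (Set.toFinite {A : Subgroup G | Inv N V U A ∧ A ≤ W ∧ A ≠ V}).exists_minimal
      ⟨W, hW, le_rfl, hWV⟩
    refine ⟨A, ⟨hA.1.1, hA.1.2.2, fun A' hA' hle hne => ?_⟩, hA.1.2.1⟩
    exact le_antisymm hle (hA.2 ⟨hA', hle.trans hA.1.2.1, hne⟩ hle)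
  have hconj : ∀ l ∈ L, ∀ A ∈ 𝒜, A.map (MulAut.conj l).toMonoidHom ∈ 𝒜 := by
    intro l hl A hA
    refine ⟨hA.1.map_conj (hLN hl), fun he => hA.2.1 ?_, fun A' hA' hle hne => ?_⟩
    · rw [← map_conj_inv_cancel l A, he]
      exact Normal.map_conj_eq V l⁻¹
    · have h1 : A'.map (MulAut.conj l⁻¹).toMonoidHom ≤ A := by
        rw [← map_conj_inv_cancel l A]; exact map_mono hle
      have h2 := hA.2.2 _ (hA'.map_conj (inv_mem (hLN hl))) h1 (fun he => hne ?_)
      · rw [← h2, map_conj_inv_cancel']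
      · rw [← map_conj_inv_cancel' l A', he]
        exact Normal.map_conj_eq V l
  set s : Subgroup G := V ⊔ sSup 𝒜 with hs
  have hsInv : Inv L V U s := by
    refine ⟨le_sup_left, sup_le hVU (sSup_le fun A hA => hA.1.2.1), ?_⟩
    apply le_normalizer_sup (le_normalizer_of_normal' V L)
    rw [le_normalizer_iff]
    intro l hl x hx
    have h1 : (sSup 𝒜).map (MulAut.conj l).toMonoidHom ≤ sSup 𝒜 := by
      rw [sSup_eq_iSup, Subgroup.map_iSup]
      refine iSup_le fun A => ?_
      rw [Subgroup.map_iSup]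
      refine iSup_le fun hA => ?_
      rw [← sSup_eq_iSup]
      exact le_sSup (hconj l hl A hA)
    exact h1 ⟨x, hx, by simp⟩
  have hsU : s = U := by
    obtain ⟨t, ht, hst, hst'⟩ := h s hsInv
    by_cases htV : t = V
    · rw [htV, sup_eq_left.2 hsInv.1] at hst
      exact hst
    · exfalso
      obtain ⟨A, hA, hAt⟩ := hatom t (ht.mono hNL) htV
      apply hA.2.1
      apply le_antisymm _ hA.1.1
      rw [← hst']
      exact le_inf ((le_sSup hA).trans le_sup_right) hAt
  intro w hw
  obtain ⟨t, ht⟩ := (Set.toFinite {t : Subgroup G | Inv N V U t ∧ w ⊓ t = V}).exists_maximal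
    ⟨V, ⟨le_rfl, hVU, le_normalizer_of_normal' V N⟩, inf_eq_right.2 hw.1⟩
  refine ⟨t, ht.1.1, ?_, ht.1.2⟩
  by_contra hne
  have hwt : Inv N V U (w ⊔ t) := hw.sup ht.1.1
  have : ∃ A ∈ 𝒜, ¬ A ≤ w ⊔ t := by
    by_contra hcon
    push Not at hcon
    apply hne
    apply le_antisymm hwt.2.1
    rw [← hsU]
    exact sup_le hwt.1 (sSup_le hcon)
  obtain ⟨A, hA, hAn⟩ := this
  have h2 : (w ⊔ t) ⊓ A = V := by
    by_contra h3
    have h4 := hA.2.2 _ (hwt.inf hA.1) inf_le_right h3
    apply hAn
    rw [← h4]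
    exact inf_le_left
  have h5 := inf_sup_eq_of hab hw ht.1.1 hA.1 ht.1.2 h2
  have h6 : t ⊔ A ≤ t := ht.2 ⟨ht.1.1.sup hA.1, h5⟩ le_sup_left
  exact hAn ((le_sup_right.trans h6).trans le_sup_right)

/-- A chief factor is completely reducible under every subnormal subgroup. -/
theorem compRed_of_isSubnormal [Finite G] {V U : Subgroup G} (h : IsChiefFactor U V)
    (hab : ⁅U, U⁆ ≤ V) {L : Subgroup G} (hL : L.IsSubnormal) : CompRed L V U := by
  have hV := h.2.2.1
  have hU := h.2.1
  induction hL with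
  | top =>
    intro W hW
    have hWn : W.Normal := by
      rw [← normalizer_eq_top_iff]; exact top_le_iff.1 hW.2.2
    rcases h.2.2.2 W hWn hW.1 hW.2.1 with rfl | rfl
    · exact ⟨U, ⟨hW.2.1, le_rfl, le_normalizer_of_normal' _ _⟩, sup_eq_right.2 hW.2.1,
        inf_eq_left.2 hW.2.1⟩
    · exact ⟨V, ⟨le_rfl, hW.1, le_normalizer_of_normal' _ _⟩, sup_eq_left.2 hW.1,
        inf_eq_right.2 hW.1⟩
  | step H K hHK hK hN ih =>
    exact compRed_step h.1.le hab hHK (le_normalizer_of_normal_subgroupOf hHK) ih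

/-- A subgroup `L` between normal subgroups `D ≤ H` with `H/D` a `p`-group is subnormal. -/
theorem isSubnormal_of_quotient_pGroup [Finite G] {p : ℕ} [Fact p.Prime] {D H L : Subgroup G}
    [hD : D.Normal] [hH : H.Normal] (hDL : D ≤ L) (hLH : L ≤ H)
    (hp : ∀ h ∈ H, ∃ k : ℕ, h ^ p ^ k ∈ D) : L.IsSubnormal := by
  set π := QuotientGroup.mk' D with hπ
  have hpH : IsPGroup p ↥(H.map π) := by
    rintro ⟨_, h, hh, rfl⟩
    obtain ⟨k, hk⟩ := hp h hh
    refine ⟨k, Subtype.ext ?_⟩
    rw [Subgroup.coe_pow, Subgroup.coe_one, ← map_pow]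
    exact (QuotientGroup.eq_one_iff _).2 hk
  have hnil : Group.IsNilpotent ↥(H.map π) := IsPGroup.isNilpotent hpH
  have h1 : ((L.map π).subgroupOf (H.map π)).IsSubnormal :=
    (Cfsg.Agent.S0064.result (G := ↥(H.map π))).1 hnil _
  have hn : (H.map π).Normal := hH.map π (QuotientGroup.mk'_surjective D)
  have h2 : (L.map π).IsSubnormal :=
    Subgroup.IsSubnormal.trans (map_mono hLH) h1 hn.isSubnormal
  have h3 := h2.comap π
  have e : (L.map π).comap π = L := by
    rw [comap_map_eq, hπ, QuotientGroup.ker_mk', sup_eq_left.2 hDL]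
  rw [e] at h3
  exact h3

end Cfsg.Agent.H35.Chief
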