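import Cfsg.Agent.H35.Chief

/-!
# A cubic element outside `O_p(G)` if a K-infinity subgroup of a Sylow subgroup is not normal

`T` is a normal subgroup of `G` inside `S`, `C ≤ T` normal in `G` of class at most two with
`⁅T, C⁆ ≤ Z(C)`.
-/

set_option autoImplicit false

universe u

namespace Cfsg.Agent.H35.Cubic

open Cfsg Subgroup Cfsg.Agent.H35.KSeq Cfsg.Agent.H35.Chief
open scoped commutatorElement

variable {G : Type u} [Group G]

/-- Notation: the centre of `C`, as a subgroup of `G`. -/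
abbrev Zc (C : Subgroup G) : Subgroup G := C ⊓ centralizer (C : Set G)

theorem Zc_le (C : Subgroup G) : Zc C ≤ C := inf_le_left

theorem Zc_comm (C : Subgroup G) : ⁅Zc C, C⁆ = ⊥ :=
  commutator_eq_bot_iff_le_centralizer.2 inf_le_right

theorem Zc_self_comm (C : Subgroup G) : ⁅Zc C, Zc C⁆ = ⊥ :=
  le_bot_iff.1 ((commutator_mono le_rfl (Zc_le C)).trans (Zc_comm C).le)

instance Zc_normal (C : Subgroup G) [hC : C.Normal] : (Zc C).Normal := by
  have : (centralizer (C : Set G)).Normal := normal_centralizer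
  exact normal_inf_normal C _

theorem exists_first {S T : Subgroup G} [T.Normal] (hTS : T ≤ S)
    (hK : ¬ (inducedFunctor kInfLower S).Normal ∨ ¬ (inducedFunctor kInfUpper S).Normal) :
    ∃ n, (∀ m < n, evenIn S m ≤ T ∧ oddIn S (m + 1) ≤ T) ∧
      ¬ (evenIn S n ≤ T ∧ oddIn S (n + 1) ≤ T) := by
  classical
  have hex : ∃ n, ¬ (evenIn S n ≤ T ∧ oddIn S (n + 1) ≤ T) := by
    by_contra hcon
    simp only [not_exists, not_not] at hcon
    obtain ⟨h1, h2⟩ := induced_eq_of_terms_le hTS hcon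
    obtain ⟨h3, h4⟩ := induced_normal T
    rw [h1] at h3
    rw [h2] at h4
    rcases hK with h | h
    · exact h h3
    · exact h h4
  refine ⟨Nat.find hex, fun m hm => ?_, Nat.find_spec hex⟩
  exact not_not.1 (Nat.find_min hex hm)

/-- The dichotomy: a subgroup `B` of `S` of class at most two outside `T` acting quadratically on
`Z(C)` and cubically on `C`. -/
theorem core_alt {S T C : Subgroup G} [T.Normal] [C.Normal] (hTS : T ≤ S) (hCT : C ≤ T)
    (hC2 : ⁅C, C⁆ ≤ centralizer (C : Set G)) (hTC : ⁅T, C⁆ ≤ Zc C)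
    (hK : ¬ (inducedFunctor kInfLower S).Normal ∨ ¬ (inducedFunctor kInfUpper S).Normal) :
    ∃ B : Subgroup G, B ≤ S ∧ ¬ B ≤ T ∧ B ∈ classTwoSubgroups G ∧ ⁅⁅Zc C, B⁆, B⁆ = ⊥ ∧
      ⁅⁅⁅C, B⁆, B⁆, B⁆ = ⊥ ∧
      (⁅⁅C, B⁆, B⁆ ≤ Zc C ∨ ∃ Q : Subgroup G, C ≤ Q ∧ B ∈ kLowerStarFamily Q) := by
  obtain ⟨n, hn1, hn2⟩ := exists_first hTS hK
  have hCS : C ≤ S := hCT.trans hTS
  have hCC : C ∈ classTwoSubgroups G := hC2
  have hCQ : C ≤ oddIn S n := by
    cases n with
    | zero => rw [oddIn_zero]; exact hCS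
    | succ m =>
      rw [oddIn_succ]
      refine le_sSup ⟨hCS, hCC, ?_⟩
      rw [commutator_comm]
      exact (commutator_mono (hn1 m (Nat.lt_succ_self m)).1 le_rfl).trans hTC
  by_cases hE : evenIn S n ≤ T
  · -- the odd case
    have hO : ¬ oddIn S (n + 1) ≤ T := fun h => hn2 ⟨hE, h⟩
    by_cases hCL : C ∈ kLowerStarFamily (oddIn S n)
    · rw [oddIn_succ, sSup_le_iff] at hO
      push Not at hO
      obtain ⟨B, ⟨hBS, hB⟩, hBT⟩ := hO
      have hCE : C ≤ evenIn S n := by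
        rw [evenIn_eq]; exact le_sSup ⟨hCS, hCL⟩
      have h1 : ⁅C, B⁆ ≤ Zc B := by
        rw [commutator_comm]
        exact (commutator_mono le_rfl hCE).trans hB.2
      have h2 : ⁅⁅C, B⁆, B⁆ = ⊥ :=
        le_bot_iff.1 ((commutator_mono h1 le_rfl).trans (Zc_comm B).le)
      refine ⟨B, hBS, hBT, hB.1, ?_, ?_, Or.inl ?_⟩
      · exact le_bot_iff.1 ((commutator_mono (commutator_mono (Zc_le C) le_rfl) le_rfl).trans h2.le)
      · rw [h2]; exact commutator_bot_left _
      · rw [h2]; exact bot_le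
    · have hex : ∃ A ∈ classTwoSubgroups G, A ≤ oddIn S n ∧ C ≤ normalizer (A : Set G) ∧
          ⁅C, ⁅A, A⁆⁆ = ⊥ ∧ ⁅⁅Zc C, A⁆, A⁆ = ⊥ ∧ ¬ ⁅C, A⁆ ≤ Zc C := by
        by_contra hcon
        push Not at hcon
        exact hCL ⟨hCC, le_normalizer_of_normal' C _, fun A hA hAQ h1 h2 h3 =>
          hcon A hA hAQ h1 h2 h3⟩
      obtain ⟨A, hA, hAQ, hCA, h1, h2, h3⟩ := hex
      have hCA' : ⁅C, A⁆ ≤ A := le_normalizer_iff_commutator_le_right.1 hCA
      have hCC' : ⁅⁅C, A⁆, A⁆ ≤ C := (commutator_mono (commutator_le_left C A) le_rfl).trans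
        (commutator_le_left C A)
      refine ⟨A, hAQ.trans (oddIn_le S n), fun hAT => h3 ?_, hA, h2, ?_, Or.inl ?_⟩
      · rw [commutator_comm]; exact (commutator_mono hAT le_rfl).trans hTC
      · refine le_bot_iff.1 ((commutator_mono (commutator_mono hCA' le_rfl) le_rfl).trans ?_)
        rw [le_bot_iff, commutator_eq_bot_iff_le_centralizer]
        exact hA
      · refine le_inf hCC' ?_
        rw [← commutator_eq_bot_iff_le_centralizer, ← le_bot_iff, commutator_comm, ← h1]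
        exact commutator_mono le_rfl (commutator_mono hCA' le_rfl)
  · -- the even case
    rw [evenIn_eq, sSup_le_iff] at hE
    push Not at hE
    obtain ⟨B, ⟨hBS, hB⟩, hBT⟩ := hE
    have hZQ : Zc C ≤ oddIn S n := (Zc_le C).trans hCQ
    have h1 : ⁅B, Zc C⁆ ≤ Zc B := by
      refine hB.2.2 (Zc C) ?_ hZQ (le_normalizer_of_normal' _ _) ?_ ?_
      · show ⁅Zc C, Zc C⁆ ≤ _
        rw [Zc_self_comm]; exact bot_le
      · rw [Zc_self_comm]; exact commutator_bot_right _
      · rw [← le_bot_iff, ← Zc_self_comm C]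
        exact commutator_mono (commutator_le_right _ _) le_rfl
    have hCB : ⁅C, B⁆ ≤ B := le_normalizer_iff_commutator_le_right.1 (hCQ.trans hB.2.1)
    refine ⟨B, hBS, hBT, hB.1, ?_, ?_, Or.inr ⟨_, hCQ, hB⟩⟩
    · rw [← le_bot_iff, ← Zc_comm B, commutator_comm (Zc C)]
      exact commutator_mono h1 le_rfl
    · refine le_bot_iff.1 ((commutator_mono (commutator_mono hCB le_rfl) le_rfl).trans ?_)
      rw [le_bot_iff, commutator_eq_bot_iff_le_centralizer]
      exact hB.1

/-! ### Elements acting trivially on the chief factors below a critical subgroup -/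

/-- The subgroup of the elements acting trivially on all chief factors below `P`. -/
theorem exists_kernel [Finite G] {p : ℕ} [Fact p.Prime] {P : Subgroup G} [hPn : P.Normal]
    (hP : IsPGroup p ↥P) :
    ∃ K : Subgroup G, K.Normal ∧ (∀ g : G, g ∈ K ↔ ∀ U V : Subgroup G, IsChiefFactor U V → U ≤ P →
        ⁅U, zpowers g⁆ ≤ V) ∧
      (∀ g ∈ K, ∃ k : ℕ, g ^ p ^ k ∈ centralizer (P : Set G)) := by
  let I : Type _ := {q : Subgroup G × Subgroup G // IsChiefFactor q.1 q.2 ∧ q.1 ≤ P}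
  let K : Subgroup G := ⨅ q : I, @sectionKernel G _ q.1.1 q.1.2 q.2.1.2.2.1
  have hK : ∀ g : G, g ∈ K ↔ ∀ U V : Subgroup G, IsChiefFactor U V → U ≤ P →
      ⁅U, zpowers g⁆ ≤ V := by
    intro g
    rw [Subgroup.mem_iInf]
    constructor
    · intro h U V hUV hUP
      have hV := hUV.2.2.1
      have h1 := h ⟨(U, V), hUV, hUP⟩
      rw [commutator_comm, zpowers_eq_closure]
      apply commutator_closure_le
      · exact le_normalizer_of_normal' _ _
      · intro x hx u hu
        rw [Set.mem_singleton_iff] at hx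
        subst hx
        have h2 := PLocal.ChiefReduction.mem_sectionKernel_iff.1 h1 u hu
        have h3 := V.inv_mem h2
        rwa [commutatorElement_inv, commutatorElement_def] at h3
    · rintro h ⟨⟨U, V⟩, hUV, hUP⟩
      have hV := hUV.2.2.1
      rw [PLocal.ChiefReduction.mem_sectionKernel_iff]
      intro a ha
      exact h U V hUV hUP (commutator_mem_commutator ha (mem_zpowers g))
  have hKn : K.Normal := by
    apply Subgroup.normal_iInf_normal
    intro q
    have := q.2.1.2.1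
    have := q.2.1.2.2.1
    exact PLocal.ChiefReduction.sectionKernel_normal _ _
  refine ⟨K, hKn, hK, ?_⟩
  intro g hg
  refine PLocal.ChiefReduction.exists_pow_mem_centralizer hP (g := g) ?_ (Nat.card P) P
    inferInstance le_rfl le_rfl
  intro A B hA hB hBA hAP hN
  exact (Subgroup.mem_iInf.mp hg) ⟨(A, B), ⟨hBA, hA, hB, hN⟩, hAP⟩

/-- If `C_G(T) ≤ T = O_p(G)`, and every `p'`-automorphism of `T` trivial on `C` is trivial, then an
element acting trivially on all chief factors below `C` lies in `T`. -/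
theorem mem_pCore_of_trivial [Finite G] {p : ℕ} [Fact p.Prime] {C : Subgroup G} [hCn : C.Normal]
    (hCT : C ≤ pCore p G)
    (hA5 : ∀ φ : MulAut ↥(pCore p G), (orderOf φ).Coprime p →
      (∀ a : ↥(pCore p G), (a : G) ∈ C → φ a = a) → φ = 1)
    (hCG : centralizer ((pCore p G : Subgroup G) : Set G) ≤ pCore p G) {g : G}
    (hg : ∀ U V : Subgroup G, IsChiefFactor U V → U ≤ C → ⁅U, zpowers g⁆ ≤ V) :
    g ∈ pCore p G := by
  have hTp : IsPGroup p ↥(pCore p G) := Cfsg.Agent.Lib.Cores.pCore_isPGroup p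
  have hTn : (pCore p G).Normal := Cfsg.Agent.Lib.Cores.pCore_normal p
  obtain ⟨K, hKn, hK, hKp⟩ := exists_kernel (hTp.to_le hCT)
  have hKP : IsPGroup p ↥K := by
    rintro ⟨x, hx⟩
    obtain ⟨k, hk⟩ := hKp x hx
    set y := x ^ p ^ k with hy
    obtain ⟨l, r, hr, hlr⟩ : ∃ l r : ℕ, ¬ p ∣ r ∧ orderOf y = p ^ l * r :=
      Nat.exists_eq_pow_mul_and_not_dvd (orderOf_pos y).ne' p (Fact.out : p.Prime).ne_one
    set z := y ^ p ^ l with hz
    have hzo : orderOf z = r := by
      rw [hz, orderOf_pow, hlr, Nat.gcd_eq_right (Dvd.intro _ rfl)]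
      exact Nat.mul_div_cancel_left r (pow_pos (Fact.out : p.Prime).pos l)
    have hzc : (orderOf z).Coprime p := by
      rw [hzo, Nat.coprime_comm, (Fact.out : p.Prime).coprime_iff_not_dvd]
      exact hr
    have hzC : z ∈ centralizer (C : Set G) := pow_mem hk _
    have hφ : (MulAut.conjNormal z : MulAut ↥(pCore p G)) = 1 := by
      apply hA5
      · exact Nat.Coprime.coprime_dvd_left (orderOf_map_dvd MulAut.conjNormal z) hzc
      · intro a ha
        apply Subtype.ext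
        rw [MulAut.conjNormal_apply]
        have := mem_centralizer_iff.1 hzC a ha
        rw [← this]
        group
    have hzT : z ∈ centralizer ((pCore p G : Subgroup G) : Set G) := by
      rw [mem_centralizer_iff]
      intro a ha
      have h1 := DFunLike.congr_fun hφ (⟨a, ha⟩ : ↥(pCore p G))
      have h2 := congrArg Subtype.val h1
      rw [MulAut.conjNormal_apply] at h2
      have h3 : z * a * z⁻¹ = a := h2
      rw [mul_inv_eq_iff_eq_mul] at h3
      exact h3.symm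
    have hzT' := hCG hzT
    obtain ⟨m, hm⟩ := hTp ⟨z, hzT'⟩
    have hm' : z ^ p ^ m = 1 := by simpa using congrArg Subtype.val hm
    have hz1 : z = 1 := by
      rw [← orderOf_eq_one_iff]
      have h1 : orderOf z ∣ p ^ m := orderOf_dvd_of_pow_eq_one hm'
      exact Nat.eq_one_of_dvd_coprimes (Nat.Coprime.pow_right m hzc) dvd_rfl h1
    refine ⟨k + l, Subtype.ext ?_⟩
    rw [Subgroup.coe_pow, Subgroup.coe_one, pow_add, pow_mul]
    exact hz1
  exact Cfsg.Agent.Lib.Cores.le_pCore hKn hKP ((hK g).2 hg)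

/-! ### The quadratic action above the centre -/

theorem commutator_sup_section_le {U V A A' X : Subgroup G} [V.Normal] [U.Normal] (hab : ⁅U, U⁆ ≤ V)
    (hVU : V ≤ U) (hA : A ≤ U) (hA' : A' ≤ U) : ⁅A ⊔ A', X⁆ ≤ ⁅A, X⁆ ⊔ ⁅A', X⁆ ⊔ V := by
  have hZU : ⁅A, X⁆ ⊔ ⁅A', X⁆ ⊔ V ≤ U :=
    sup_le (sup_le ((commutator_mono hA le_rfl).trans (commutator_le_left U X))
      ((commutator_mono hA' le_rfl).trans (commutator_le_left U X))) hVU
  have hN : U ≤ normalizer ((⁅A, X⁆ ⊔ ⁅A', X⁆ ⊔ V : Subgroup G) : Set G) :=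
    le_normalizer_iff_commutator_le_right.2
      ((commutator_mono le_rfl hZU).trans (hab.trans le_sup_right))
  exact commutator_sup_le' (hA.trans hN) (hA'.trans hN) (le_sup_left.trans le_sup_left)
    (le_sup_right.trans le_sup_left)

theorem le_normalizer_Zc {B X : Subgroup G} (h : X ≤ normalizer (B : Set G)) :
    X ≤ normalizer ((Zc B : Subgroup G) : Set G) := by
  refine (le_inf h ?_).trans inf_normalizer_le_normalizer_inf
  intro x hx
  rw [mem_normalizer_iff_map_conj_eq]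
  have hB : B.map (MulAut.conj x).toMonoidHom = B := mem_normalizer_iff_map_conj_eq.1 (h hx)
  ext y
  constructor
  · rintro ⟨c, hc, rfl⟩
    rw [mem_centralizer_iff]
    intro b hb
    rw [← hB] at hb
    obtain ⟨b', hb', rfl⟩ := hb
    have := mem_centralizer_iff.1 hc b' hb'
    show MulAut.conj x b' * MulAut.conj x c = MulAut.conj x c * MulAut.conj x b'
    rw [← map_mul, ← map_mul, this]
  · intro hy
    refine ⟨x⁻¹ * y * x, ?_, by simp [mul_assoc]⟩
    rw [SetLike.mem_coe, mem_centralizer_iff]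
    intro b hb
    have hb' : x * b * x⁻¹ ∈ B := by
      rw [← hB]; exact ⟨b, hb, by simp⟩
    have := mem_centralizer_iff.1 hy _ hb'
    calc b * (x⁻¹ * y * x) = x⁻¹ * ((x * b * x⁻¹) * y) * x := by group
      _ = x⁻¹ * (y * (x * b * x⁻¹)) * x := by rw [this]
      _ = x⁻¹ * y * x * b := by group

theorem quad_on_top [Finite G] {p : ℕ} [Fact p.Prime] {T C Q B : Subgroup G} [T.Normal]
    [hCn : C.Normal] (hCp : IsPGroup p ↥C)
    (hC2 : ⁅C, C⁆ ≤ centralizer (C : Set G)) (hTC : ⁅T, C⁆ ≤ Zc C) (hCQ : C ≤ Q)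
    (hB : B ∈ kLowerStarFamily Q) (hZB : Zc B ≤ T)
    (htriv : ∀ U V : Subgroup G, IsChiefFactor U V → U ≤ Zc C → ⁅U, B⁆ ≤ V)
    (U V : Subgroup G) (h : IsChiefFactor U V) (hZV : Zc C ≤ V) (hUC : U ≤ C) :
    ⁅⁅U, B⁆, B⁆ ≤ V := by
  have hVn := h.2.2.1
  have hUn := h.2.1
  have hZn : (Zc C).Normal := inferInstance
  have hCC : ⁅C, C⁆ ≤ Zc C := le_inf (commutator_le_self C) hC2
  have hab : ⁅U, U⁆ ≤ V := (commutator_mono hUC hUC).trans (hCC.trans hZV)
  set D : Subgroup G := centralizer ((Zc C : Subgroup G) : Set G) with hD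
  have hDn : D.Normal := normal_centralizer
  obtain ⟨H, hHn, hH, hHp⟩ := exists_kernel (P := Zc C) (hCp.to_le (Zc_le C))
  have hDH : D ≤ H := by
    intro d hd
    rw [hH]
    intro U' V' _ hU'
    have : ⁅U', zpowers d⁆ = ⊥ := by
      rw [commutator_comm, commutator_eq_bot_iff_le_centralizer, zpowers_le]
      exact centralizer_le hU' hd
    rw [this]; exact bot_le
  have hBH : B ≤ H := by
    intro b hb
    rw [hH]
    intro U' V' hUV' hU'
    exact (commutator_mono le_rfl (by rw [zpowers_le]; exact hb)).trans (htriv U' V' hUV' hU')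
  set L : Subgroup G := D ⊔ B with hL
  have hLsub : L.IsSubnormal :=
    isSubnormal_of_quotient_pGroup (D := D) (H := H) le_sup_left (sup_le hDH hBH) hHp
  have hUQB : U ≤ normalizer (B : Set G) := hUC.trans (hCQ.trans hB.2.1)
  have hUZB : U ≤ normalizer ((Zc B : Subgroup G) : Set G) := le_normalizer_Zc hUQB
  -- the subgroup `A`
  set s : Set G := {x | ∃ d ∈ D, ∃ z ∈ U ⊓ Zc B, x = d * z * d⁻¹} with hs
  set A : Subgroup G := closure s with hA
  have hAU : A ≤ U := by
    rw [hA, closure_le]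
    rintro x ⟨d, _, z, hz, rfl⟩
    exact hUn.conj_mem z hz.1 d
  have hAC : A ≤ C := hAU.trans hUC
  have hDA : D ≤ normalizer (A : Set G) := by
    rw [hA, le_normalizer_closure_iff]
    rintro d hd x ⟨d', hd', z, hz, rfl⟩
    exact subset_closure ⟨d * d', mul_mem hd hd', z, hz, by group⟩
  have hBZ : B ≤ normalizer ((U ⊓ Zc B : Subgroup G) : Set G) :=
    (le_inf (le_normalizer_of_normal' U B) (le_normalizer_Zc le_normalizer)).trans
      inf_normalizer_le_normalizer_inf
  have hBA : B ≤ normalizer (A : Set G) := by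
    rw [hA, le_normalizer_closure_iff]
    rintro b hb x ⟨d, hd, z, hz, rfl⟩
    refine subset_closure ⟨b * d * b⁻¹, hDn.conj_mem d hd b, b * z * b⁻¹, ?_, by group⟩
    exact (mem_normalizer_iff.1 (hBZ hb) z).1 hz
  have hAZ : A ≤ normalizer ((Zc B ⊓ Zc C : Subgroup G) : Set G) := by
    refine le_trans ?_ (centralizer_le_normalizer _)
    rw [le_centralizer_iff]
    refine inf_le_right.trans (inf_le_right.trans (centralizer_le hAC))
  have hAUc : ⁅A, U⁆ ≤ Zc B ⊓ Zc C := by
    rw [hA]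
    apply commutator_closure_le
    · rw [← hA]; exact hAZ
    · rintro x ⟨d, hd, z, hz, rfl⟩ u hu
      have hu' : d⁻¹ * u * d ∈ U := by
        have := hUn.conj_mem u hu d⁻¹
        simpa using this
      have h1 : z * (d⁻¹ * u * d) * z⁻¹ * (d⁻¹ * u * d)⁻¹ ∈ Zc C := by
        rw [← commutatorElement_def]
        exact hCC (commutator_mem_commutator (hUC hz.1) (hUC hu'))
      have h2 : z * (d⁻¹ * u * d) * z⁻¹ * (d⁻¹ * u * d)⁻¹ ∈ Zc B := by
        have h3 : (d⁻¹ * u * d) * z⁻¹ * (d⁻¹ * u * d)⁻¹ ∈ Zc B :=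
          (mem_normalizer_iff.1 (hUZB hu') _).1 (inv_mem hz.2)
        have h4 := mul_mem hz.2 h3
        simpa [mul_assoc] using h4
      have h5 := mem_centralizer_iff.1 hd _ h1
      have h6 : d * z * d⁻¹ * u * (d * z * d⁻¹)⁻¹ * u⁻¹ =
          z * (d⁻¹ * u * d) * z⁻¹ * (d⁻¹ * u * d)⁻¹ := by
        calc d * z * d⁻¹ * u * (d * z * d⁻¹)⁻¹ * u⁻¹
            = (d * (z * (d⁻¹ * u * d) * z⁻¹ * (d⁻¹ * u * d)⁻¹)) * d⁻¹ := by group
          _ = ((z * (d⁻¹ * u * d) * z⁻¹ * (d⁻¹ * u * d)⁻¹) * d) * d⁻¹ := by rw [h5]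
          _ = _ := by group
      rw [h6]
      exact ⟨h2, h1⟩
  have hAA : ⁅A, A⁆ ≤ Zc B ⊓ Zc C := (commutator_mono le_rfl hAU).trans hAUc
  have hA2 : A ∈ classTwoSubgroups G :=
    hAA.trans (inf_le_right.trans (inf_le_right.trans (centralizer_le hAC)))
  have h1 : ⁅B, ⁅A, A⁆⁆ = ⊥ := by
    rw [commutator_comm]
    refine le_bot_iff.1 ((commutator_mono (hAA.trans inf_le_left) le_rfl).trans (Zc_comm B).le)
  have h2 : ⁅⁅Zc B, A⁆, A⁆ = ⊥ := by
    refine le_bot_iff.1 ((commutator_mono ((commutator_mono hZB hAC).trans hTC) hAC).trans ?_)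
    exact (Zc_comm C).le
  have h3 : ⁅B, A⁆ ≤ Zc B := hB.2.2 A hA2 (hAC.trans hCQ) hBA h1 h2
  have h4 : ⁅⁅A, B⁆, B⁆ = ⊥ := by
    rw [commutator_comm A B]
    exact le_bot_iff.1 ((commutator_mono h3 le_rfl).trans (Zc_comm B).le)
  have hUB : ⁅U, B⁆ ≤ B := le_normalizer_iff_commutator_le_right.1 hUQB
  have h5 : ⁅⁅U, B⁆, B⁆ ≤ A := by
    have h6 : ⁅⁅U, B⁆, B⁆ ≤ U ⊓ Zc B := by
      refine le_inf ((commutator_mono (commutator_le_left U B) le_rfl).trans
        (commutator_le_left U B)) ?_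
      exact (commutator_mono hUB le_rfl).trans (le_inf (commutator_le_self B) hB.1)
    refine h6.trans fun z hz => subset_closure ⟨1, one_mem _, z, hz, by group⟩
  -- the complement
  have hW : Inv L V U (A ⊔ V) := ⟨le_sup_right, sup_le hAU h.1.le,
    le_normalizer_sup (sup_le hDA hBA) (le_normalizer_of_normal' V L)⟩
  obtain ⟨W', hW', hsup, hinf⟩ := compRed_of_isSubnormal h hab hLsub _ hW
  have hWq : ⁅⁅A ⊔ V, B⁆, B⁆ ≤ V := by
    have := iter_sup_le (U := A) (V := V) (X := B) (m := 2) (by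
      rw [iter_succ, iter_succ, iter_zero, h4]; exact bot_le)
    rw [iter_succ, iter_succ, iter_zero] at this
    exact this
  have hW'q : ⁅⁅W', B⁆, B⁆ ≤ V := by
    have h7 : B ≤ normalizer (W' : Set G) := le_sup_right.trans hW'.2.2
    have h8 : ⁅W', B⁆ ≤ W' := le_normalizer_iff_commutator_le_left.1 h7
    rw [← hinf]
    refine le_inf ?_ ((commutator_mono h8 le_rfl).trans h8)
    exact (commutator_mono (commutator_mono hW'.2.1 le_rfl) le_rfl).trans
      (h5.trans le_sup_left)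
  have h9 : ⁅U, B⁆ ≤ ⁅A ⊔ V, B⁆ ⊔ ⁅W', B⁆ ⊔ V := by
    conv_lhs => rw [← hsup]
    exact commutator_sup_section_le hab h.1.le hW.2.1 hW'.2.1
  refine (commutator_mono h9 le_rfl).trans ?_
  have hVN : ∀ X : Subgroup G, X ≤ normalizer (V : Set G) :=
    fun X => le_normalizer_of_normal' V X
  exact commutator_sup_le' (hVN _) (hVN _) (commutator_sup_le' (hVN _) (hVN _) hWq hW'q)
    (commutator_le_left V B)

/-! ### The main theorem -/

theorem iter_three (A X : Subgroup G) : iterCommutator A X 3 = ⁅⁅⁅A, X⁆, X⁆, X⁆ := rfl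

/-- **The cubic element.** `T = O_p(G) ≤ S`, `C ≤ T` normal in `G` of class at most two with
`⁅T, C⁆ ≤ Z(C)` such that every `p'`-automorphism of `T` trivial on `C` is trivial. If a K-infinity
subgroup of `S` is not normal in `G`, some `g ∈ S` outside `T` acts cubically on `C`, quadratically on
`Z(C)`, and (if `C_G(T) ≤ T`) quadratically but not trivially on a chief factor of `G` below `C`. -/
theorem exists_cubic [Finite G] {p : ℕ} [Fact p.Prime] {S C : Subgroup G}
    (hTS : pCore p G ≤ S) [hCn : C.Normal] (hCT : C ≤ pCore p G)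
    (hC2 : ⁅C, C⁆ ≤ centralizer (C : Set G)) (hTC : ⁅pCore p G, C⁆ ≤ Zc C)
    (hA5 : ∀ φ : MulAut ↥(pCore p G), (orderOf φ).Coprime p →
      (∀ a : ↥(pCore p G), (a : G) ∈ C → φ a = a) → φ = 1)
    (hK : ¬ (inducedFunctor kInfLower S).Normal ∨ ¬ (inducedFunctor kInfUpper S).Normal) :
    ∃ g ∈ S, g ∉ pCore p G ∧ ⁅⁅⁅C, zpowers g⁆, zpowers g⁆, zpowers g⁆ = ⊥ ∧
      ⁅⁅Zc C, zpowers g⁆, zpowers g⁆ = ⊥ ∧
      (centralizer ((pCore p G : Subgroup G) : Set G) ≤ pCore p G →
        ∃ U V : Subgroup G, IsChiefFactor U V ∧ U ≤ C ∧ ⁅⁅U, zpowers g⁆, zpowers g⁆ ≤ V ∧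
          ¬ ⁅U, zpowers g⁆ ≤ V) := by
  set T := pCore p G with hT
  have hTp : IsPGroup p ↥T := Cfsg.Agent.Lib.Cores.pCore_isPGroup p
  have hTn : T.Normal := Cfsg.Agent.Lib.Cores.pCore_normal p
  have hZn : (Zc C).Normal := inferInstance
  obtain ⟨B, hBS, hBT, hB2, hq, hc, halt⟩ := core_alt hTS hCT hC2 hTC hK
  -- an element outside `T` is nontrivial on some chief factor of one of the two kinds
  have hnontriv : ∀ g : G, g ∉ T → centralizer (T : Set G) ≤ T →
      ∃ U V : Subgroup G, IsChiefFactor U V ∧ U ≤ C ∧ (U ≤ Zc C ∨ Zc C ≤ V) ∧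
        ¬ ⁅U, zpowers g⁆ ≤ V := by
    intro g hg hCG
    by_contra hcon
    push Not at hcon
    apply hg
    refine mem_pCore_of_trivial (C := C) hCT hA5 hCG ?_
    intro U V hUV hUC
    exact chief_iter_le (M := C) (N := Zc C) (X := zpowers g) (m := 1) (Zc_le C)
      (fun U V h1 h2 => hcon U V h1 (h2.trans (Zc_le C)) (Or.inl h2))
      (fun U V h1 h2 h3 => hcon U V h1 h3 (Or.inr h2)) U V hUV hUC
  -- reduction to an element of `B`
  have hfin : ∀ g ∈ B, g ∉ T →
      (centralizer (T : Set G) ≤ T → ∃ U V : Subgroup G, IsChiefFactor U V ∧ U ≤ C ∧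
        ⁅⁅U, zpowers g⁆, zpowers g⁆ ≤ V ∧ ¬ ⁅U, zpowers g⁆ ≤ V) →
      ∃ g ∈ S, g ∉ T ∧ ⁅⁅⁅C, zpowers g⁆, zpowers g⁆, zpowers g⁆ = ⊥ ∧
      ⁅⁅Zc C, zpowers g⁆, zpowers g⁆ = ⊥ ∧
      (centralizer (T : Set G) ≤ T →
        ∃ U V : Subgroup G, IsChiefFactor U V ∧ U ≤ C ∧ ⁅⁅U, zpowers g⁆, zpowers g⁆ ≤ V ∧
          ¬ ⁅U, zpowers g⁆ ≤ V) := by
    intro g hg hgT hgc
    have hz : zpowers g ≤ B := by rw [zpowers_le]; exact hg
    refine ⟨g, hBS hg, hgT, ?_, ?_, hgc⟩
    · rw [← le_bot_iff, ← hc]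
      exact commutator_mono (commutator_mono (commutator_mono le_rfl hz) hz) hz
    · rw [← le_bot_iff, ← hq]
      exact commutator_mono (commutator_mono le_rfl hz) hz
  have hqZ : ∀ g ∈ B, ∀ U V : Subgroup G, U ≤ Zc C → ⁅⁅U, zpowers g⁆, zpowers g⁆ ≤ V := by
    intro g hg U V hU
    have hz : zpowers g ≤ B := by rw [zpowers_le]; exact hg
    refine le_trans ?_ (hq.le.trans bot_le)
    exact commutator_mono (commutator_mono hU hz) hz
  by_cases hQC : ⁅⁅C, B⁆, B⁆ ≤ Zc C
  · obtain ⟨g, hgB, hgT⟩ := SetLike.not_le_iff_exists.1 hBT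
    refine hfin g hgB hgT fun hCG => ?_
    obtain ⟨U, V, hUV, hUC, hor, hn⟩ := hnontriv g hgT hCG
    refine ⟨U, V, hUV, hUC, ?_, hn⟩
    rcases hor with h1 | h1
    · exact hqZ g hgB U V h1
    · have hz : zpowers g ≤ B := by rw [zpowers_le]; exact hgB
      exact (commutator_mono (commutator_mono hUC hz) hz).trans (hQC.trans h1)
  · obtain ⟨Q, hCQ, hB⟩ := halt.resolve_left hQC
    by_cases hZT : Zc B ≤ T
    · by_cases hCG : centralizer (T : Set G) ≤ T
      · by_cases htr : ∀ U V : Subgroup G, IsChiefFactor U V → U ≤ Zc C → ⁅U, B⁆ ≤ V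
        · obtain ⟨g, hgB, hgT⟩ := SetLike.not_le_iff_exists.1 hBT
          refine hfin g hgB hgT fun _ => ?_
          obtain ⟨U, V, hUV, hUC, hor, hn⟩ := hnontriv g hgT hCG
          refine ⟨U, V, hUV, hUC, ?_, hn⟩
          rcases hor with h1 | h1
          · exact hqZ g hgB U V h1
          · have hz : zpowers g ≤ B := by rw [zpowers_le]; exact hgB
            exact (commutator_mono (commutator_mono le_rfl hz) hz).trans
              (quad_on_top (hTp.to_le hCT) hC2 hTC hCQ hB hZT htr U V hUV h1 hUC)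
        · push Not at htr
          obtain ⟨U, V, hUV, hUZ, hn⟩ := htr
          have hVn := hUV.2.2.1
          have : ∃ g ∈ B, ¬ ⁅U, zpowers g⁆ ≤ V := by
            by_contra hcon
            push Not at hcon
            apply hn
            rw [commutator_le]
            intro u hu b hb
            exact hcon b hb (commutator_mem_commutator hu (mem_zpowers b))
          obtain ⟨g, hgB, hgn⟩ := this
          have hgT : g ∉ T := by
            intro hgT
            apply hgn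
            refine (commutator_mono le_rfl ?_).trans
              (chief_centralized (T := T) (IsPGroup.isNilpotent hTp) hUV
                (hUZ.trans ((Zc_le C).trans hCT)))
            rw [zpowers_le]; exact hgT
          exact hfin g hgB hgT fun _ => ⟨U, V, hUV, hUZ.trans (Zc_le C), hqZ g hgB U V hUZ, hgn⟩
      · obtain ⟨g, hgB, hgT⟩ := SetLike.not_le_iff_exists.1 hBT
        exact hfin g hgB hgT fun h => absurd h hCG
    · obtain ⟨g, hgZ, hgT⟩ := SetLike.not_le_iff_exists.1 hZT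
      have hgB : g ∈ B := hgZ.1
      have hz : zpowers g ≤ Zc B := by rw [zpowers_le]; exact hgZ
      refine hfin g hgB hgT fun hCG => ?_
      obtain ⟨U, V, hUV, hUC, -, hn⟩ := hnontriv g hgT hCG
      refine ⟨U, V, hUV, hUC, ?_, hn⟩
      have h1 : ⁅C, Zc B⁆ ≤ Zc B :=
        le_normalizer_iff_commutator_le_right.1 (le_normalizer_Zc (hCQ.trans hB.2.1))
      have h2 : ⁅⁅C, Zc B⁆, Zc B⁆ = ⊥ := by
        rw [← le_bot_iff, ← Zc_self_comm B]; exact commutator_mono h1 le_rfl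
      exact (commutator_mono (commutator_mono hUC hz) hz).trans (h2.le.trans bot_le)

end Cfsg.Agent.H35.Cubic
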