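import Cfsg.Agent.S3719
import Cfsg.Agent.S0252
import Cfsg.Agent.S0254
import Cfsg.Agent.S0006
import Cfsg.Agent.H53.HC.BigFacts
import Mathlib.FieldTheory.Finite.GaloisField

/-!
# Three primes other than `r` (hub H5, helper35)

A finite simple group which is not a `PSL(2,F)` and not `PSL(3,3)`, `PSU(3,3)`, `PSU(4,2)` has order divisible by
at least four primes (Herzog's list, `S3719`), hence by three primes other than any given `r`.

* `three_primes` : the number theory;
* `Big.tri'` : a big character gives a triangle in the degree graph.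
-/

set_option autoImplicit false

open Cfsg

namespace Cfsg.Agent.H35

open Cfsg.Agent.H671.H5

/-- `S` is `PSL(3,3)`, `PSU(3,3)` or `PSU(4,2)` -/
def IsK3 (S : Type*) [Group S] : Prop :=
  (∃ (F : Type) (_ : Field F) (_ : Fintype F), Fintype.card F = 3 ∧
    Nonempty (S ≃* Matrix.ProjectiveSpecialLinearGroup (Fin 3) F)) ∨
  (∃ (F : Type) (_ : Field F) (_ : Fintype F), Fintype.card F = 9 ∧ Nonempty (S ≃* Cfsg.PSU 3 F 3)) ∨
  (∃ (F : Type) (_ : Field F) (_ : Fintype F), Fintype.card F = 4 ∧ Nonempty (S ≃* Cfsg.PSU 4 F 2))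

theorem isL2_alt_five {S : Type*} [Group S] (e : S ≃* alternatingGroup (Fin 5)) : IsL2 S := by
  let _ : Fintype (GaloisField 2 2) := Fintype.ofFinite _
  have h4 : Fintype.card (GaloisField 2 2) = 4 := by
    rw [← Nat.card_eq_fintype_card, GaloisField.card 2 2 (by norm_num)]
    norm_num
  obtain ⟨e'⟩ := S0252.result h4
  exact ⟨GaloisField 2 2, inferInstance, inferInstance, by rw [h4], ⟨e.trans e'.symm⟩⟩

theorem isL2_alt_six {S : Type*} [Group S] (e : S ≃* alternatingGroup (Fin 6)) : IsL2 S := by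
  let _ : Fintype (GaloisField 3 2) := Fintype.ofFinite _
  have h9 : Fintype.card (GaloisField 3 2) = 9 := by
    rw [← Nat.card_eq_fintype_card, GaloisField.card 3 2 (by norm_num)]
    norm_num
  obtain ⟨e'⟩ := S0254.result h9
  exact ⟨GaloisField 3 2, inferInstance, inferInstance, by rw [h9]; norm_num, ⟨e.trans e'.symm⟩⟩

/-- a simple group with at most three prime divisors -/
theorem isL2_or_isK3 {S : Type*} [Group S] [Finite S] [IsSimpleGroup S] (hna : ¬ IsMulCommutative S)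
    (h3 : (Nat.card S).primeFactors.card ≤ 3) : IsL2 S ∨ IsK3 S := by
  have h2 : (Nat.card S).primeFactors.card = 3 := by
    refine le_antisymm h3 ?_
    by_contra hcon
    obtain ⟨p, q, a, b, hp, hq, hpq⟩ := S0006.exists_eq_pow_mul_pow (n := Nat.card S) Nat.card_pos.ne' (by omega)
    have hs := S0144.result p q a b hp hq hpq
    exact hna ⟨⟨fun x y => IsSimpleGroup.comm_iff_isSolvable.2 hs x y⟩⟩
  rcases S3719.result hna h2 with ⟨⟨e⟩⟩ | ⟨⟨e⟩⟩ | ⟨F, i1, i2, hF, he⟩ | h | h | h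
  · exact Or.inl (isL2_alt_five e)
  · exact Or.inl (isL2_alt_six e)
  · exact Or.inl ⟨F, i1, i2, by omega, he⟩
  · exact Or.inr (Or.inl h)
  · exact Or.inr (Or.inr (Or.inl h))
  · exact Or.inr (Or.inr (Or.inr h))

/-- **Three primes other than `r`.** -/
theorem three_primes {S : Type*} [Group S] [Finite S] [IsSimpleGroup S] (hna : ¬ IsMulCommutative S)
    (hL : ¬ IsL2 S) (hK : ¬ IsK3 S) (r : ℕ) :
    ∃ p q s : ℕ, p.Prime ∧ q.Prime ∧ s.Prime ∧ p ≠ q ∧ q ≠ s ∧ p ≠ s ∧ p ∣ Nat.card S ∧ q ∣ Nat.card S ∧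
      s ∣ Nat.card S ∧ p ≠ r ∧ q ≠ r ∧ s ≠ r := by
  have h4 : 4 ≤ (Nat.card S).primeFactors.card := by
    by_contra hcon
    rcases isL2_or_isK3 hna (by omega) with h | h
    · exact hL h
    · exact hK h
  have h5 : 2 < ((Nat.card S).primeFactors.erase r).card := by
    have := Finset.pred_card_le_card_erase (s := (Nat.card S).primeFactors) (a := r)
    omega
  obtain ⟨p, q, s, hp, hq, hs, h6, h7, h8⟩ := Finset.two_lt_card_iff.1 h5
  rw [Finset.mem_erase, Nat.mem_primeFactors] at hp hq hs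
  exact ⟨p, q, s, hp.2.1, hq.2.1, hs.2.1, h6, h8, h7, hp.2.2.1, hq.2.2.1, hs.2.2.1, hp.1, hq.1, hs.1⟩

/-- **(Tri)** from a big character -/
theorem tri_of_big {S : Type*} [Group S] [Finite S] [IsSimpleGroup S] (hna : ¬ IsMulCommutative S)
    (hL : ¬ IsL2 S) (hK : ¬ IsK3 S) {r : ℕ} (h : H53.HC.Big r S) : ∃ p q s : ℕ, Adj p q S ∧ Adj q s S ∧ Adj p s S := by
  obtain ⟨p, q, s, hp, hq, hs, h1, h2, h3, h4, h5, h6, h7, h8, h9⟩ := three_primes hna hL hK r
  exact h.tri hp hq hs h1 h2 h3 h4 h5 h6 h7 h8 h9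

end Cfsg.Agent.H35
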